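import Cfsg.Prelude.Def_CaseTheorems
import Cfsg.Agent.Lib.QuasiDihedral

/-!
In a group with semidihedral Sylow 2-subgroups commuting elements of order four have equal squares; `PSL₃(q)` for
`q ≡ 1` and `PSU₃(q)` for `q ≡ 3` modulo 4 have commuting elements of order four with distinct squares.
-/

set_option autoImplicit false
set_option linter.unusedSectionVars false

namespace CfsgLib.RankTwoModel.Rows

open Cfsg

universe u

theorem qd_four_sq {S : Type*} [Group S] [Finite S] (hS : IsQuasiDihedral S) {g h : S} (hg : orderOf g = 4) (hh : orderOf h = 4) :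
    g * g = h * h := by
  obtain ⟨-, -, -, d, -⟩ := CfsgLib.QD.exists_data hS
  have key : ∀ {g : S}, orderOf g = 4 → g * g = d.z := fun {g} hg => by
    rcases CfsgLib.QD.order_four_cases d hg with rfl | rfl | ⟨j, rfl⟩
    · rw [← zpow_add, CfsgLib.QD.z_mem_iff]; exact ⟨0, by ring⟩
    · rw [← zpow_add, CfsgLib.QD.z_mem_iff]; exact ⟨1, by ring⟩
    · exact CfsgLib.QD.xy_mul_self_odd d j
  rw [key hg, key hh]

theorem no_two_squares {G : Type*} [Group G] [Finite G] (S : Sylow 2 G) (hS : IsQuasiDihedral (S : Subgroup G))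
    {a b : G} (ha : orderOf a = 4) (hb : orderOf b = 4) (hab : Commute a b) : a * a = b * b := by
  haveI : Fact (Nat.Prime 2) := ⟨Nat.prime_two⟩
  set T := Subgroup.zpowers a ⊔ Subgroup.zpowers b
  have hp : ∀ {c : G}, orderOf c = 4 → IsPGroup 2 (Subgroup.zpowers c) := fun {c} hc =>
    IsPGroup.of_card (n := 2) (by rw [Nat.card_zpowers, hc]; rfl)
  have hT : IsPGroup 2 T := IsPGroup.to_sup_of_normal_right' (hp ha) (hp hb) (by
    rw [Subgroup.zpowers_le]
    rw [Subgroup.mem_normalizer_iff]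
    intro n
    constructor
    · intro hn
      obtain ⟨k, rfl⟩ := Subgroup.mem_zpowers_iff.mp hn
      rw [(hab.zpow_right k).eq, mul_inv_cancel_right]
      exact ⟨k, rfl⟩
    · intro hn
      obtain ⟨k, hk⟩ := Subgroup.mem_zpowers_iff.mp hn
      have e : n = b ^ k := mul_left_cancel (mul_right_cancel (hk.symm.trans (by
        rw [(hab.zpow_right k).eq, mul_inv_cancel_right])))
      exact e ▸ ⟨k, rfl⟩)
  obtain ⟨P, hP⟩ := hT.exists_le_sylow
  let e := Sylow.equiv P S
  have haP : a ∈ (P : Subgroup G) := hP (Subgroup.mem_sup_left (Subgroup.mem_zpowers a))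
  have hbP : b ∈ (P : Subgroup G) := hP (Subgroup.mem_sup_right (Subgroup.mem_zpowers b))
  have h := qd_four_sq hS (g := e ⟨a, haP⟩) (h := e ⟨b, hbP⟩)
    (by rw [e.orderOf_eq, Subgroup.orderOf_mk, ha]) (by rw [e.orderOf_eq, Subgroup.orderOf_mk, hb])
  rw [← map_mul, ← map_mul] at h
  exact congrArg Subtype.val (e.injective h)

section Torus

open Matrix

variable {F : Type*} [Field F]

/-- A diagonal matrix of determinant one. -/
def dg (x y : Fˣ) : SpecialLinearGroup (Fin 3) F :=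
  ⟨diagonal ![(x : F), y, ((x * y)⁻¹ : Fˣ)], by
    rw [det_diagonal, Fin.prod_univ_three]
    simp only [Matrix.cons_val_zero, Matrix.cons_val_one, Matrix.cons_val_two, Matrix.tail_cons, Matrix.head_cons,
      ← Units.val_mul, mul_inv_cancel, Units.val_one]⟩

/-- The cyclic permutation of the coordinates. -/
def cyc : SpecialLinearGroup (Fin 3) F :=
  ⟨!![0, 1, 0; 0, 0, 1; 1, 0, 0], by simp [det_fin_three]⟩

theorem dg_mul (x y x' y' : Fˣ) : (dg x y : SpecialLinearGroup (Fin 3) F) * dg x' y' = dg (x * x') (y * y') := by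
  apply Subtype.ext
  show (diagonal _ * diagonal _ : Matrix (Fin 3) (Fin 3) F) = diagonal _
  rw [diagonal_mul_diagonal]
  congr 1
  funext i; fin_cases i
  · simp
  · simp
  · simp; ring

theorem dg_one : (dg 1 1 : SpecialLinearGroup (Fin 3) F) = 1 := by
  apply Subtype.ext
  show (diagonal _ : Matrix (Fin 3) (Fin 3) F) = 1
  rw [← diagonal_one]
  congr 1
  funext i; fin_cases i <;> simp

theorem dg_cyc_ne {x y : Fˣ} (h : x ≠ y ∨ y ≠ (x * y)⁻¹) :
    (cyc : SpecialLinearGroup (Fin 3) F) * dg x y ≠ dg x y * cyc := by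
  intro e
  rcases h with h | h <;> refine h (Units.ext ?_)
  · have : ((cyc : SpecialLinearGroup (Fin 3) F).1 * (dg x y).1) 0 1 = ((dg x y).1 * (cyc : SpecialLinearGroup (Fin 3) F).1) 0 1 :=
      congrFun (congrFun (congrArg Subtype.val e) 0) 1
    simpa [cyc, dg, Matrix.mul_apply, Fin.sum_univ_three] using this.symm
  · have : ((cyc : SpecialLinearGroup (Fin 3) F).1 * (dg x y).1) 1 2 = ((dg x y).1 * (cyc : SpecialLinearGroup (Fin 3) F).1) 1 2 :=
      congrFun (congrFun (congrArg Subtype.val e) 1) 2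
    simpa [cyc, dg, Matrix.mul_apply, Fin.sum_univ_three] using this.symm

/-- In a quotient by a central subgroup of a group of such matrices containing them, two commuting elements of order
four with distinct squares. -/
theorem exists_two_squares (K : Subgroup (SpecialLinearGroup (Fin 3) F)) (hc : cyc ∈ K) (i : Fˣ) (hi : i * i * (i * i) = 1)
    (hi2 : i * i ≠ 1) (hK : ∀ x y : Fˣ, (x = 1 ∨ x = i) → (y = 1 ∨ y = i) → dg x y ∈ K) :
    ∃ a b : ↥K ⧸ Subgroup.center ↥K, orderOf a = 4 ∧ orderOf b = 4 ∧ Commute a b ∧ a * a ≠ b * b := by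
  haveI : Fact (Nat.Prime 2) := ⟨Nat.prime_two⟩
  set π := QuotientGroup.mk' (Subgroup.center ↥K)
  let A : ↥K := ⟨dg i 1, hK _ _ (Or.inr rfl) (Or.inl rfl)⟩
  let B : ↥K := ⟨dg 1 i, hK _ _ (Or.inl rfl) (Or.inr rfl)⟩
  have hne : ∀ (g : ↥K) (x y : Fˣ), (g : SpecialLinearGroup (Fin 3) F) = dg x y → (x ≠ y ∨ y ≠ (x * y)⁻¹) → π g ≠ 1 := by
    intro g x y hg hxy hz
    have := Subgroup.mem_center_iff.mp ((QuotientGroup.eq_one_iff g).mp hz) ⟨cyc, hc⟩
    have e := congrArg Subtype.val this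
    rw [Subgroup.coe_mul, Subgroup.coe_mul, hg] at e
    exact dg_cyc_ne hxy e
  have hA2 : ((A * A : ↥K) : SpecialLinearGroup (Fin 3) F) = dg (i * i) 1 := by
    rw [Subgroup.coe_mul, dg_mul, one_mul]
  have hB2 : ((B * B : ↥K) : SpecialLinearGroup (Fin 3) F) = dg 1 (i * i) := by
    rw [Subgroup.coe_mul, dg_mul, one_mul]
  have h4 : ∀ (g : ↥K) (x y : Fˣ), ((g * g : ↥K) : SpecialLinearGroup (Fin 3) F) = dg x y → (x ≠ y ∨ y ≠ (x * y)⁻¹) → x * x = 1 →
      y * y = 1 → orderOf (π g) = 4 := by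
    intro g x y hg hxy hx hy
    refine orderOf_eq_prime_pow (p := 2) (n := 1) ?_ ?_
    · rw [pow_one, sq, ← map_mul]; exact hne _ x y hg hxy
    · rw [show (2 : ℕ) ^ (1 + 1) = 2 * 2 from rfl, pow_mul, sq (π g), sq, ← map_mul, ← map_mul]
      rw [show g * g * (g * g) = 1 from Subtype.ext (by rw [Subgroup.coe_mul, hg, dg_mul, hx, hy, dg_one]; rfl), map_one]
  refine ⟨π A, π B, h4 A _ _ hA2 (Or.inl hi2) hi (one_mul 1), h4 B _ _ hB2 (Or.inl (Ne.symm hi2)) (one_mul 1) hi, ?_, ?_⟩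
  · show π A * π B = π B * π A
    rw [← map_mul, ← map_mul]
    congr 1
    refine Subtype.ext ?_
    rw [Subgroup.coe_mul, Subgroup.coe_mul, dg_mul, dg_mul, mul_comm i, mul_comm (1 : Fˣ)]
  · intro e
    refine hne (A * A * (B * B)⁻¹) (i * i) (i * i)⁻¹ ?_ ?_ (by
      rw [map_mul, map_inv, map_mul, map_mul, e, mul_inv_cancel])
    · rw [Subgroup.coe_mul, Subgroup.coe_inv, hA2, hB2]
      rw [mul_inv_eq_iff_eq_mul, dg_mul, mul_one, inv_mul_cancel]
    · refine Or.inr fun h2 => hi2 ?_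
      rw [mul_inv_cancel, inv_one, inv_eq_one] at h2
      exact h2

end Torus

end CfsgLib.RankTwoModel.Rows
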