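import Cfsg.Agent.Lib.RankTwoModel.Hyp
import Cfsg.Agent.Lib.RankTwoModel.Rows.Squares
import Cfsg.Agent.S0486
import Cfsg.Agent.S0483
import Cfsg.Agent.S0516

/-!
The rows S0507, S0523 and S0482 from the main theorem on the smallest groups with semidihedral or wreathed Sylow
2-subgroups.

Blueprint: `blueprint/RankTwo.md`, parcel P11.
-/

set_option autoImplicit false
set_option linter.unusedSectionVars false
set_option linter.style.haveILetI false

namespace CfsgLib.RankTwoModel.Rows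

open Cfsg

universe u v

/-- The main theorem. -/
def Main : Prop := ∀ (G : Type u) [Group G] [Finite G], Hyp G → Model G

theorem exists_unit_four {F : Type v} [Field F] [Fintype F] (h : 4 ∣ Fintype.card F - 1) :
    ∃ i : Fˣ, i * i * (i * i) = 1 ∧ i * i ≠ 1 ∧ orderOf i = 4 := by
  classical
  obtain ⟨g, hg⟩ := IsCyclic.exists_ofOrder_eq_natCard (α := Fˣ)
  rw [Nat.card_eq_fintype_card, Fintype.card_units] at hg
  obtain ⟨k, hk⟩ := h
  have hk0 : 0 < k := by
    have := orderOf_pos g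
    rw [hg, hk] at this
    omega
  have h4 : orderOf (g ^ k) = 4 := by
    rw [orderOf_pow_of_dvd hk0.ne' (by rw [hg, hk]; exact dvd_mul_left _ _), hg, hk, Nat.mul_div_cancel _ hk0]
  refine ⟨g ^ k, ?_, ?_, h4⟩
  · rw [← pow_two, ← pow_two, ← pow_mul (g ^ k), show 2 * 2 = 4 from rfl, ← h4, pow_orderOf_eq_one]
  · intro e
    have := Nat.le_of_dvd two_pos (orderOf_dvd_of_pow_eq_one (n := 2) (x := g ^ k) (by rw [pow_two]; exact e))
    omega

/-- No `L₃(q)`, `q ≡ 1 (mod 4)`, if commuting elements of order four have equal squares. -/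
theorem not_sl_one_of {G : Type u} [Group G]
    (hno : ∀ a b : G, orderOf a = 4 → orderOf b = 4 → Commute a b → a * a = b * b)
    {F : Type v} [Field F] [Fintype F] (h4 : Fintype.card F % 4 = 1)
    (e : G ≃* Matrix.ProjectiveSpecialLinearGroup (Fin 3) F) : False := by
  obtain ⟨i, hi, hi2, -⟩ := exists_unit_four (F := F) (by omega)
  obtain ⟨a, b, ha, hb, hab, hne⟩ :=
    exists_two_squares (⊤ : Subgroup (Matrix.SpecialLinearGroup (Fin 3) F)) (Subgroup.mem_top _) i hi hi2
      fun _ _ _ _ => Subgroup.mem_top _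
  let t : ↥(⊤ : Subgroup (Matrix.SpecialLinearGroup (Fin 3) F)) ≃* Matrix.SpecialLinearGroup (Fin 3) F := Subgroup.topEquiv
  let f := (QuotientGroup.congr (Subgroup.center _) (Subgroup.center _) t
    (by
      ext x
      simp only [Subgroup.mem_map, Subgroup.mem_center_iff]
      constructor
      · rintro ⟨y, hy, rfl⟩ g
        obtain ⟨g, rfl⟩ := t.surjective g
        show t g * t y = t y * t g
        rw [← map_mul, ← map_mul, hy]
      · intro hx
        exact ⟨t.symm x, fun g => t.injective (by rw [map_mul, map_mul, t.apply_symm_apply]; exact hx _),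
          t.apply_symm_apply x⟩)).trans e.symm
  refine hne (f.injective ?_)
  rw [map_mul, map_mul]
  exact hno _ _ (by rw [f.orderOf_eq, ha]) (by rw [f.orderOf_eq, hb]) (hab.map f.toMonoidHom)

theorem not_sl_one {G : Type u} [Group G] [Finite G] (S : Sylow 2 G) (hS : IsQuasiDihedral (S : Subgroup G))
    {F : Type v} [Field F] [Fintype F] (h4 : Fintype.card F % 4 = 1)
    (e : G ≃* Matrix.ProjectiveSpecialLinearGroup (Fin 3) F) : False :=
  not_sl_one_of (fun _ _ ha hb hab => no_two_squares S hS ha hb hab) h4 e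

/-- No `U₃(q)`, `q ≡ 3 (mod 4)`, if commuting elements of order four have equal squares. -/
theorem not_su_three_of {G : Type u} [Group G]
    (hno : ∀ a b : G, orderOf a = 4 → orderOf b = 4 → Commute a b → a * a = b * b)
    {F : Type v} [Field F] [Fintype F] {q : ℕ} (hF : Fintype.card F = q ^ 2) (h4 : q % 4 = 3)
    (e : G ≃* Cfsg.PSU 3 F q) : False := by
  obtain ⟨k, hk⟩ : 4 ∣ q + 1 := Nat.dvd_of_mod_eq_zero (by omega)
  obtain ⟨i, hi, hi2, hio⟩ := exists_unit_four (F := F) (by
    rw [hF]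
    exact ⟨(q - 1) * k, by
      obtain ⟨m, rfl⟩ : ∃ m, q = m + 1 := ⟨q - 1, by omega⟩
      rw [Nat.add_sub_cancel, Nat.sub_eq_iff_eq_add (Nat.one_le_pow _ _ (by omega))]
      linear_combination m * hk⟩)
  have hiq : i ^ (q + 1) = 1 := by rw [hk, pow_mul, ← hio, pow_orderOf_eq_one, one_pow]
  obtain ⟨a, b, ha, hb, hab, hne⟩ := exists_two_squares (Cfsg.SU 3 F q) (by
      intro u v
      show Cfsg.hermForm 3 F q ((cyc : Matrix.SpecialLinearGroup (Fin 3) F).1.mulVec u)
        ((cyc : Matrix.SpecialLinearGroup (Fin 3) F).1.mulVec v) = _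
      simp [Cfsg.hermForm, cyc, Fin.sum_univ_three, Matrix.mulVec, dotProduct]
      ring) i hi hi2 fun x y hx hy => by
      have hx' : x ^ (q + 1) = 1 := by rcases hx with rfl | rfl; exacts [one_pow _, hiq]
      have hy' : y ^ (q + 1) = 1 := by rcases hy with rfl | rfl; exacts [one_pow _, hiq]
      have key : ∀ (w : Fˣ), w ^ (q + 1) = 1 → ∀ s t : F, (w : F) * s * ((w : F) * t) ^ q = s * t ^ q :=
        fun w hw s t => by
          have hw' : (w : F) ^ (q + 1) = 1 := by rw [← Units.val_pow_eq_pow_val, hw, Units.val_one]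
          rw [mul_pow, show (w : F) * s * ((w : F) ^ q * t ^ q) = (w : F) ^ (q + 1) * (s * t ^ q) by ring, hw', one_mul]
      intro u v
      show Cfsg.hermForm 3 F q ((dg x y).1.mulVec u) ((dg x y).1.mulVec v) = _
      simp only [Cfsg.hermForm, dg, Fin.sum_univ_three, Matrix.mulVec_diagonal]
      simp only [Matrix.cons_val_zero, Matrix.cons_val_one, Matrix.cons_val_two, Matrix.tail_cons, Matrix.head_cons]
      rw [key x hx', key y hy', key _ (by rw [inv_pow, mul_pow, hx', hy', one_mul, inv_one])]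
  refine hne (e.symm.injective ?_)
  rw [map_mul, map_mul]
  exact hno _ _ (by rw [e.symm.orderOf_eq, ha]) (by rw [e.symm.orderOf_eq, hb]) (hab.map e.symm.toMonoidHom)

theorem not_su_three {G : Type u} [Group G] [Finite G] (S : Sylow 2 G) (hS : IsQuasiDihedral (S : Subgroup G))
    {F : Type v} [Field F] [Fintype F] {q : ℕ} (hF : Fintype.card F = q ^ 2) (h4 : q % 4 = 3)
    (e : G ≃* Cfsg.PSU 3 F q) : False :=
  not_su_three_of (fun _ _ ha hb hab => no_two_squares S hS ha hb hab) hF h4 e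

/-- S0507 from the main theorem. -/
theorem semidihedral (main : Main.{u}) {G : Type u} [Group G] [Finite G] [IsSimpleGroup G] (S : Sylow 2 G)
    (hS : IsQuasiDihedral (S : Subgroup G)) :
    (∃ (F : Type) (_ : Field F) (_ : Fintype F), Fintype.card F % 4 = 3 ∧
      Nonempty (G ≃* Matrix.ProjectiveSpecialLinearGroup (Fin 3) F)) ∨
    (∃ (F : Type) (_ : Field F) (_ : Fintype F) (q : ℕ), Fintype.card F = q ^ 2 ∧ q % 4 = 1 ∧
      Nonempty (G ≃* Cfsg.PSU 3 F q)) ∨ Cfsg.IsM11 G := by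
  rcases reduction main G inferInstance ⟨S, Or.inl hS⟩ with
      ⟨F, iF, iFt, ho, he⟩ | ⟨F, iF, iFt, q, hF, ho, he⟩ | hM
  · refine Or.inl ⟨F, iF, iFt, ?_, he⟩
    by_contra hne
    obtain ⟨j, hj⟩ := ho
    obtain ⟨e⟩ := he
    exact not_sl_one S hS (by omega) e
  · refine Or.inr (Or.inl ⟨F, iF, iFt, q, hF, ?_, he⟩)
    by_contra hne
    obtain ⟨j, hj⟩ := ho
    obtain ⟨e⟩ := he
    exact not_su_three S hS hF (by omega) e
  · exact Or.inr (Or.inr hM)

/-- S0523 from the main theorem. -/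
theorem wreathed (main : Main.{u}) {G : Type u} [Group G] [Finite G] [IsSimpleGroup G] (S : Sylow 2 G)
    (hS : IsWreathed (S : Subgroup G)) : Model G :=
  reduction main G inferInstance ⟨S, Or.inr hS⟩

/-- A simple group with dihedral Sylow 2-subgroups. -/
theorem dihedral {G : Type u} [Group G] [Finite G] [IsSimpleGroup G] (hG : ¬ IsMulCommutative G) (S : Sylow 2 G)
    {n : ℕ} (hn : 2 ≤ n) (e : (S : Subgroup G) ≃* DihedralGroup n) :
    (∃ (F : Type) (_ : Field F) (_ : Fintype F), Odd (Fintype.card F) ∧ 5 ≤ Fintype.card F ∧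
        Nonempty (G ≃* Matrix.ProjectiveSpecialLinearGroup (Fin 2) F)) ∨
      Nonempty (G ≃* alternatingGroup (Fin 7)) := by
  haveI : Group.IsPerfect G := ⟨(inferInstance : (commutator G).Normal).eq_bot_or_eq_top.resolve_left fun h0 =>
    hG ⟨⟨fun a b => commutatorElement_eq_one_iff_mul_comm.mp (Subgroup.mem_bot.mp
      (h0 ▸ Subgroup.commutator_mem_commutator (Subgroup.mem_top a) (Subgroup.mem_top b)))⟩⟩⟩
  have hbot : oddCore G = ⊥ := by
    refine (inferInstance : (oddCore G).Normal).eq_bot_or_eq_top.resolve_right fun h0 => ?_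
    have h1 := CfsgLib.odd_card_oddCore (G := G)
    rw [h0, Subgroup.card_top] at h1
    have h2 := Subgroup.card_subgroup_dvd_card (S : Subgroup G)
    rw [Nat.card_congr e.toEquiv, DihedralGroup.nat_card] at h2
    exact Nat.not_even_iff_odd.mpr h1 (even_iff_two_dvd.mpr ((dvd_mul_right 2 n).trans h2))
  let q : G ⧸ oddCore G ≃* G := (QuotientGroup.quotientMulEquivOfEq hbot).trans QuotientGroup.quotientBot
  rcases Cfsg.Agent.S0483.result S n hn ⟨e⟩ with ⟨F, iF, iFt, ho, h3, ⟨e'⟩⟩ | hA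
  · exact Or.inl ⟨F, iF, iFt, ho, by obtain ⟨j, hj⟩ := ho; omega, ⟨q.symm.trans e'⟩⟩
  · obtain ⟨e'⟩ := hA
    exact Or.inr ⟨q.symm.trans e'⟩

/-- S0482 from the main theorem. -/
theorem rank_two (main : Main.{u}) {G : Type u} [Group G] [Finite G] [IsSimpleGroup G] (hG : ¬ IsMulCommutative G)
    (h2 : Cfsg.PRankLE 2 2 G) :
    (∃ (F : Type) (_ : Field F) (_ : Fintype F), Odd (Fintype.card F) ∧ 5 ≤ Fintype.card F ∧
        Nonempty (G ≃* Matrix.ProjectiveSpecialLinearGroup (Fin 2) F)) ∨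
      (∃ (F : Type) (_ : Field F) (_ : Fintype F), Odd (Fintype.card F) ∧
        Nonempty (G ≃* Matrix.ProjectiveSpecialLinearGroup (Fin 3) F)) ∨
      (∃ (F : Type) (_ : Field F) (_ : Fintype F) (q : ℕ), Fintype.card F = q ^ 2 ∧ Odd q ∧
        Nonempty (G ≃* Cfsg.PSU 3 F q)) ∨
      (∃ (F : Type) (_ : Field F) (_ : Fintype F), Fintype.card F = 16 ∧ Nonempty (G ≃* Cfsg.PSU 3 F 4)) ∨
      Nonempty (G ≃* alternatingGroup (Fin 7)) ∨
      Cfsg.IsM11 G := by
  haveI : Fact (Nat.Prime 2) := ⟨Nat.prime_two⟩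
  letI : Fintype (GaloisField 2 4) := Fintype.ofFinite _
  have h16 : Fintype.card (GaloisField 2 4) = 16 := by
    rw [← Nat.card_eq_fintype_card, GaloisField.card 2 4 (by norm_num)]
    norm_num
  obtain ⟨P⟩ : Nonempty (Sylow 2 (Cfsg.PSU 3 (GaloisField 2 4) 4)) := inferInstance
  obtain ⟨S⟩ : Nonempty (Sylow 2 G) := inferInstance
  rcases Cfsg.Agent.S0516.result hG h2 S h16 P with ⟨n, hn, ⟨e⟩⟩ | hS | hS | he
  · rcases dihedral hG S hn e with h | h
    · exact Or.inl h
    · exact Or.inr (Or.inr (Or.inr (Or.inr (Or.inl h))))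
  · rcases reduction main G inferInstance ⟨S, Or.inl hS⟩ with h | h | h
    · exact Or.inr (Or.inl h)
    · exact Or.inr (Or.inr (Or.inl h))
    · exact Or.inr (Or.inr (Or.inr (Or.inr (Or.inr h))))
  · rcases reduction main G inferInstance ⟨S, Or.inr hS⟩ with h | h | h
    · exact Or.inr (Or.inl h)
    · exact Or.inr (Or.inr (Or.inl h))
    · exact Or.inr (Or.inr (Or.inr (Or.inr (Or.inr h))))
  · exact Or.inr (Or.inr (Or.inr (Or.inl ⟨GaloisField 2 4, inferInstance, inferInstance, h16,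
      Cfsg.Agent.S0486.result h16 S P he⟩)))

end CfsgLib.RankTwoModel.Rows
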