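import Cfsg.Agent.Lib.RankTwoModel.Rows.BicyclicEight
import Cfsg.Agent.Lib.RankTwoSylow.Main
import Cfsg.Agent.Lib.ZStar.Main
import Cfsg.Agent.Lib.Fusion.Hyperfocal
import Cfsg.Agent.Lib.Transfer
import Cfsg.Agent.S1896
import Cfsg.Agent.S0205

/-!
A simple group with bicyclic Sylow 2-subgroups has two-rank at most two.

With cyclic derived subgroup and a non-central four-group `W` inside the Frattini subgroup every essential subgroup lies
in the maximal subgroup `Φ(S)⟨e⟩`, so the focal subgroup does; with `W` central three non-fused involutions would need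
three classes of involutions outside `Φ(S)`, and there are two.
-/

set_option autoImplicit false
set_option linter.unusedSectionVars false
set_option linter.style.haveILetI false
set_option maxHeartbeats 800000

namespace CfsgLib.RankTwoModel.Rows

open Cfsg Subgroup
open scoped commutatorElement

universe u

variable {G : Type u} [Group G] [Finite G] [IsSimpleGroup G] (P : Sylow 2 G)

theorem center_eq_bot (hG : ¬ IsMulCommutative G) : Subgroup.center G = ⊥ := by
  refine (inferInstance : (Subgroup.center G).Normal).eq_bot_or_eq_top.resolve_right fun h => hG ⟨⟨fun a b => ?_⟩⟩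
  exact (Subgroup.mem_center_iff.mp (h.ge (Subgroup.mem_top a)) b).symm

theorem even_of_noncomm (hG : ¬ IsMulCommutative G) : 2 ∣ Nat.card G := by
  by_contra h
  haveI := Cfsg.Agent.S0205.result (G := G) (Nat.odd_iff.mpr (Nat.two_dvd_ne_zero.mp h))
  exact hG ⟨⟨fun a b => IsSimpleGroup.comm_iff_isSolvable.mpr inferInstance a b⟩⟩

/-- The Sylow subgroup is its own focal subgroup. -/
theorem focal_eq (hG : ¬ IsMulCommutative G) : (P : Subgroup G).focalSubgroup = (P : Subgroup G) := by
  haveI : Fact (Nat.Prime 2) := ⟨Nat.prime_two⟩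
  refine CfsgLib.Transfer.focalSubgroup_eq_of_pResidual_eq_top P ?_
  refine (inferInstance : (pResidual 2 G).Normal).eq_bot_or_eq_top.resolve_left fun h => hG ?_
  have hp : IsPGroup 2 G := by
    have := CfsgLib.Transfer.isPGroup_quotient_pResidual (G := G) (p := 2)
    intro g
    obtain ⟨k, hk⟩ := this (QuotientGroup.mk' _ g)
    refine ⟨k, ?_⟩
    rw [← map_pow] at hk
    have hm := (QuotientGroup.eq_one_iff _).mp hk
    rw [h, Subgroup.mem_bot] at hm
    exact hm
  haveI := hp.center_nontrivial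
  exact absurd (center_eq_bot hG) ((Subgroup.nontrivial_iff_ne_bot _).mp inferInstance)

/-- Fusion only inner is impossible. -/
theorem not_inner (hG : ¬ IsMulCommutative G)
    (h : ∀ x ∈ (P : Subgroup G), ∀ g : G, g * x * g⁻¹ ∈ (P : Subgroup G) →
      ∃ a ∈ (P : Subgroup G), a * x * a⁻¹ = g * x * g⁻¹) : False := by
  haveI : Fact (Nat.Prime 2) := ⟨Nat.prime_two⟩
  obtain ⟨R, N, hN, hc⟩ := CfsgLib.Transfer.hasNormalPComplement_of_control P h
  have hm := hc.card_mul
  rcases hN.eq_bot_or_eq_top with e | e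
  · rw [e, Subgroup.card_bot, one_mul] at hm
    have htop : (R : Subgroup G) = ⊤ := Subgroup.eq_top_of_card_eq _ hm
    have hp : IsPGroup 2 G := (R.2.of_equiv ((MulEquiv.subgroupCongr htop).trans Subgroup.topEquiv))
    haveI := hp.center_nontrivial
    exact absurd (center_eq_bot hG) ((Subgroup.nontrivial_iff_ne_bot _).mp inferInstance)
  · rw [e, Subgroup.card_top] at hm
    have h1 : Nat.card (R : Subgroup G) = 1 :=
      Nat.eq_of_mul_eq_mul_left (Nat.card_pos (α := G)) (hm.trans (mul_one _).symm)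
    have h2 := R.pow_dvd_card_of_pow_dvd_card (n := 1) (by simpa using even_of_noncomm hG)
    rw [h1] at h2
    norm_num at h2

variable {a b e : ↥(P : Subgroup G)} {E : Subgroup ↥(P : Subgroup G)}

/-- Every morphism of the fusion system preserves the cosets of a normal subgroup, if essential subgroups lie in it. -/
theorem focal_le (h : Eight a b e E) (M : Subgroup G)
    (hcomm : ∀ x ∈ (P : Subgroup G), ∀ y ∈ (P : Subgroup G), ⁅x, y⁆ ∈ M)
    (hess : ∀ Q : Subgroup G, (groupFusionSystem (P : Subgroup G)).IsEssential 2 Q → Q ≤ M) :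
    (P : Subgroup G).focalSubgroup ≤ M := by
  haveI : Fact (Nat.Prime 2) := ⟨Nat.prime_two⟩
  set F := groupFusionSystem (P : Subgroup G)
  have hF : F.IsSaturated 2 := FusionSystem.groupFusionSystem_isSaturated P
  have hinn : ∀ g ∈ (P : Subgroup G), ∀ x ∈ (P : Subgroup G), x⁻¹ * (g * x * g⁻¹) ∈ M := fun g hg x hx => by
    have := hcomm x⁻¹ (inv_mem hx) g hg
    simpa [commutatorElement_def, mul_assoc] using this
  let E' : FusionSystem (P : Subgroup G) :=
    { Hom := fun R => {φ | φ ∈ F.Hom R ∧ ∀ x : R, (x : G)⁻¹ * φ x ∈ M}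
      le_of_mem := fun h => F.le_of_mem h.1
      injective_of_mem := fun h => F.injective_of_mem h.1
      conj_mem := fun {R g} hR hg => ⟨F.conj_mem hR hg, fun x => hinn g hg x (hR x.2)⟩
      comp_mem := fun {R Q φ ψ} hφ hψ hh => ⟨F.comp_mem hφ.1 hψ.1 hh, fun x => by
        have := mul_mem (hφ.2 x) (hψ.2 ⟨φ x, hh x⟩)
        rwa [mul_assoc, mul_inv_cancel_left] at this⟩
      inv_mem := fun {R φ} hφ => by
        obtain ⟨ψ, hψ, hl⟩ := F.inv_mem hφ.1
        refine ⟨ψ, ⟨hψ, ?_⟩, hl⟩
        rintro ⟨_, x, rfl⟩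
        have := InvMemClass.inv_mem (hφ.2 x)
        rw [hl]
        simpa [mul_inv_rev] using this }
  have key : F ≤ E' := by
    refine hF.le_of_autGroup_le P.2 E' fun R hR => ?_
    intro α hα
    rcases hR with rfl | hR
    · rw [hF.autGroup_self_eq_inn P.2 (h.fr.isPGroup_mulAut.to_subgroup _),
        Cfsg.inn_eq_autInducedBy] at hα
      exact E'.autInducedBy_le_autGroup le_rfl hα
    · have hRS : R ≤ (P : Subgroup G) := hR.1.1
      obtain ⟨φ, hφ, -, he⟩ := F.exists_map_of_mem_autGroup hRS hα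
      refine E'.mem_autGroup_of_map ⟨hφ, fun x => ?_⟩ fun x => (he x).symm
      rw [he x]
      exact mul_mem (inv_mem (hess R hR x.2)) (hess R hR (α x).2)
  rw [Subgroup.focalSubgroup_def, Subgroup.closure_le]
  rintro _ ⟨hmem, x, hx, u, rfl⟩
  have h3 : x⁻¹ * ⁅x, u⁆ = u * x⁻¹ * u⁻¹ := by rw [commutatorElement_def]; group
  have hu : u * x⁻¹ * u⁻¹ ∈ (P : Subgroup G) := h3 ▸ mul_mem (inv_mem hx) hmem
  have hmap : conjHom (Subgroup.zpowers x⁻¹) u ∈ F.Hom _ :=
    FusionSystem.conjHom_mem_groupFusionSystem (Subgroup.zpowers_le.mpr (inv_mem hx)) fun y hy => by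
      obtain ⟨n, rfl⟩ := Subgroup.mem_zpowers_iff.mp hy
      rw [← conj_zpow]
      exact zpow_mem hu n
  have := (key _ hmap).2 ⟨x⁻¹, Subgroup.mem_zpowers _⟩
  rwa [FusionSystem.conjHom_apply, inv_inv, ← h3, mul_inv_cancel_left] at this

/-- An essential subgroup contains no element outside `Φ⟨e⟩` unless the inner four-group is central. -/
theorem ess_le (h : Eight a b e E) (hW : ∃ w ∈ frattini ↥(P : Subgroup G), w * w = 1 ∧ ¬ ∀ g, g * w = w * g)
    {Q : Subgroup ↥(P : Subgroup G)} {H : Subgroup (MulAut ↥Q)} (hE : CfsgLib.Bicyclic.Ess Q H) {g : ↥(P : Subgroup G)}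
    (hgQ : g ∈ Q) (hg : g ∉ frattini ↥(P : Subgroup G)) (hge : e⁻¹ * g ∉ frattini ↥(P : Subgroup G)) : False := by
  haveI : Fact (Nat.Prime 2) := ⟨Nat.prime_two⟩
  haveI := h.cyc
  set Φ := frattini ↥(P : Subgroup G)
  set K := commutator ↥(P : Subgroup G)
  have hQF : Q ⊔ Φ ≠ ⊤ := fun he => hE.ne_top (frattini_nongenerating he)
  have hgen := h.gen hg hge
  set Mg := zpowers g ⊔ K
  have hΦ : Φ ≤ Mg := (h.frattini_le hg hge).trans (sup_le_sup_right (zpowers_le.mpr (mul_mem (mem_zpowers g) (mem_zpowers g))) _)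
  have hMe : e ∉ Q ⊔ Φ := fun he => hQF (by
    rw [eq_top_iff, ← hgen, closure_le]
    rintro t (rfl | rfl)
    exacts [mem_sup_left hgQ, he])
  -- `Q ≤ ⟨g⟩ K`
  haveI : Mg.Normal := Subgroup.Normal.of_commutator_le _ (le_sup_right : K ≤ zpowers g ⊔ K)
  have hQM : Q ≤ Mg := by
    intro x hx
    have htop : zpowers e ⊔ Mg = ⊤ := by
      rw [eq_top_iff, ← hgen, closure_le]
      rintro t (rfl | rfl)
      · exact mem_sup_right (mem_sup_left (mem_zpowers _))
      · exact mem_sup_left (mem_zpowers _)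
    have hx' : x ∈ ((zpowers e ⊔ Mg : Subgroup _) : Set ↥(P : Subgroup G)) := by rw [htop]; trivial
    rw [Subgroup.mul_normal] at hx'
    obtain ⟨u, hu, m, hm, rfl⟩ := hx'
    obtain ⟨k, rfl⟩ := mem_zpowers_iff.mp hu
    rcases Int.even_or_odd' k with ⟨l, rfl | rfl⟩
    · dsimp only
      rw [zpow_mul, zpow_two, h.ee, one_zpow, one_mul]; exact hm
    · refine absurd ?_ hMe
      have hmQ : m ∈ Q ⊔ Φ := (sup_le (zpowers_le.mpr (mem_sup_left hgQ))
        (h.fr.comm_le_frattini.trans le_sup_right) : Mg ≤ Q ⊔ Φ) hm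
      have := mul_mem (mem_sup_left (T := Φ) hx) (inv_mem hmQ)
      dsimp only at this
      rwa [mul_inv_cancel_right, zpow_add, zpow_mul, zpow_two, h.ee, one_zpow, one_mul, zpow_one] at this
  -- it is metacyclic
  have hform : ∀ q ∈ Q, ∃ i : ℤ, ∃ k ∈ K, k ∈ Q ∧ q = g ^ i * k := by
    intro q hq
    have hq' : q ∈ ((zpowers g ⊔ K : Subgroup _) : Set ↥(P : Subgroup G)) := hQM hq
    rw [Subgroup.mul_normal] at hq'
    obtain ⟨u, hu, k, hk, rfl⟩ := hq'
    obtain ⟨i, rfl⟩ := mem_zpowers_iff.mp hu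
    refine ⟨i, k, hk, ?_, rfl⟩
    have := mul_mem (inv_mem (zpow_mem hgQ i)) hq
    dsimp only at this
    rwa [inv_mul_cancel_left] at this
  have hmeta : Cfsg.IsMetacyclic ↥Q := by
    haveI : (K.subgroupOf Q).Normal := ⟨fun k hk q => (inferInstance : K.Normal).conj_mem _ hk (q : ↥(P : Subgroup G))⟩
    refine ⟨K.subgroupOf Q, inferInstance, ?_, ⟨⟨QuotientGroup.mk' _ ⟨g, hgQ⟩, fun z => ?_⟩⟩⟩
    · exact isCyclic_of_injective ((Q.subtype.comp (K.subgroupOf Q).subtype).codRestrict K fun k => k.2)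
        fun x y hxy => Subtype.ext (Subtype.ext (congrArg (fun w : K => (w : ↥(P : Subgroup G))) hxy))
    · obtain ⟨q, rfl⟩ := QuotientGroup.mk'_surjective _ z
      obtain ⟨i, k, hk, hkQ, hq⟩ := hform q q.2
      refine mem_zpowers_iff.mpr ⟨i, ?_⟩
      rw [← map_zpow]
      refine QuotientGroup.eq.mpr ?_
      show ((⟨g, hgQ⟩ : Q) ^ i)⁻¹ * q ∈ K.subgroupOf Q
      rw [Subgroup.mem_subgroupOf, Subgroup.coe_mul, Subgroup.coe_inv, SubgroupClass.coe_zpow, hq, inv_mul_cancel_left]
      exact hk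
  -- the four inner roots
  obtain ⟨w, hwF, hw2, hwc⟩ := hW
  rcases Cfsg.Agent.S1896.result (hE.isPGroup) hmeta hE.not_two_group with hQ8 | ⟨n, ⟨f⟩⟩
  · -- quaternion: then `Φ` is cyclic
    obtain ⟨f⟩ := hQ8
    set z : Q := f.symm (QuaternionGroup.a 2)
    have hcases : ∀ q : Q, q * q = 1 ∨ q * q = z := fun q => by
      rcases (show ∀ x : QuaternionGroup 2, x * x = 1 ∨ x * x = QuaternionGroup.a 2 by decide) (f q) with h' | h'
      · exact Or.inl (f.injective (by rw [map_mul, h', map_one]))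
      · exact Or.inr (f.injective (by rw [map_mul, h', f.apply_symm_apply]))
    set gQ : Q := ⟨g, hgQ⟩ with hgQdef
    have hg2 : gQ * gQ = z :=
      (hcases gQ).resolve_left fun h' => hge (h.outer_coset (congrArg Subtype.val h') hg)
    by_cases hzK : (z : ↥(P : Subgroup G)) ∈ K
    · have h1 : g * g ∈ K := by rw [← hg2] at hzK; exact hzK
      have hle : Φ ≤ K := (h.frattini_le hg hge).trans (sup_le (zpowers_le.mpr h1) le_rfl)
      haveI : IsCyclic ↥Φ := isCyclic_of_injective (Subgroup.inclusion hle) (Subgroup.inclusion_injective hle)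
      have := card_le_two_of_cyclic ((E ⊓ Φ).subgroupOf Φ) fun x hx =>
        Subtype.ext (h.esq _ (Subgroup.mem_subgroupOf.mp hx).1)
      rw [Nat.card_congr (Subgroup.subgroupOfEquivOfLe inf_le_right).toEquiv, h.inner_card.1] at this
      omega
    · have hz : ∀ k : Q, (k : ↥(P : Subgroup G)) ∈ K → k = 1 := fun k hk => by
        rcases hcases k with h' | h'
        · by_contra hk1
          rcases (show ∀ x : QuaternionGroup 2, x * x = 1 → x = 1 ∨ x = QuaternionGroup.a 2 by decide) (f k)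
              (by rw [← map_mul, h', map_one]) with h1 | h1
          · exact hk1 (f.injective (h1.trans (map_one f).symm))
          · exact hzK (by rw [show z = k from f.injective (by rw [f.apply_symm_apply, h1])]; exact hk)
        · exact absurd (by rw [← h', Subgroup.coe_mul]; exact mul_mem hk hk) hzK
      have h4 : gQ ^ (4 : ℤ) = 1 := f.injective (by
        rw [map_zpow, map_one, show (4 : ℤ) = ((4 : ℕ) : ℤ) from rfl, zpow_natCast]
        exact (show ∀ x : QuaternionGroup 2, x ^ 4 = 1 by decide) _)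
      have hs : Function.Surjective (fun i : Fin 4 => gQ ^ (i : ℕ)) := fun q => by
        obtain ⟨i, k, hk, hkQ, hq⟩ := hform q q.2
        refine ⟨⟨(i % 4).toNat, by omega⟩, ?_⟩
        have hk1 : k = 1 := congrArg Subtype.val (hz ⟨k, hkQ⟩ hk)
        have hq' : q = gQ ^ i := Subtype.ext (by
          rw [hq, hk1, mul_one, SubgroupClass.coe_zpow])
        show gQ ^ (i % 4).toNat = q
        rw [hq', ← zpow_natCast, Int.toNat_of_nonneg (Int.emod_nonneg _ (by norm_num))]
        conv_rhs => rw [← Int.emod_add_mul_ediv i 4, zpow_add, zpow_mul, h4, one_zpow, mul_one]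
      have hle := Nat.card_le_card_of_surjective _ hs
      rw [Nat.card_congr f.toEquiv, Nat.card_eq_fintype_card, QuaternionGroup.card, Nat.card_fin] at hle
      omega
  · -- homocyclic: `Q` holds the inner roots, so they are central
    have hab : ∀ x ∈ Q, ∀ y ∈ Q, x * y = y * x := fun x hx y hy =>
      congrArg Subtype.val (f.injective (show f (⟨x, hx⟩ * ⟨y, hy⟩) = f (⟨y, hy⟩ * ⟨x, hx⟩) by
        rw [map_mul, map_mul, mul_comm]))
    have hn : n ≠ 0 := fun h0 => by
      subst h0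
      haveI : Subsingleton (ZMod (2 ^ 0)) := by rw [pow_zero]; infer_instance
      haveI : Subsingleton Q := f.toEquiv.subsingleton
      have hg1 : g = 1 := congrArg Subtype.val (Subsingleton.elim (⟨g, hgQ⟩ : Q) 1)
      exact hg (by rw [hg1]; exact one_mem _)
    obtain ⟨t, ht⟩ : ∃ t : ZMod (2 ^ n), t + t = 0 ∧ t ≠ 0 := by
      obtain ⟨m, rfl⟩ : ∃ m, n = m + 1 := ⟨n - 1, by omega⟩
      refine ⟨((2 ^ m : ℕ) : ZMod (2 ^ (m + 1))), ?_, fun h0 => ?_⟩
      · rw [← Nat.cast_add, ZMod.natCast_eq_zero_iff, pow_succ]; exact ⟨1, by ring⟩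
      · rw [ZMod.natCast_eq_zero_iff] at h0
        have := Nat.le_of_dvd (Nat.two_pow_pos m) h0
        rw [pow_succ] at this
        have := Nat.one_le_two_pow (n := m)
        omega
    classical
    let A : Multiplicative (ZMod (2 ^ n)) := Multiplicative.ofAdd t
    have hA : A * A = 1 ∧ A ≠ 1 := ⟨congrArg Multiplicative.ofAdd ht.1, fun h0 => ht.2 (congrArg Multiplicative.toAdd h0)⟩
    let T : Finset ↥(P : Subgroup G) :=
      ({(1, 1), (A, 1), (1, A), (A, A)} : Finset _).image fun p => ((f.symm p : Q) : ↥(P : Subgroup G))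
    have hT : ∀ x ∈ T, x ∈ Q ∧ x * x = 1 := fun x hx => by
      obtain ⟨p, hp, rfl⟩ := Finset.mem_image.mp hx
      refine ⟨(f.symm p).2, congrArg Subtype.val (show f.symm p * f.symm p = 1 from ?_)⟩
      rw [← map_mul, show p * p = 1 from ?_, map_one]
      simp only [Finset.mem_insert, Finset.mem_singleton] at hp
      rcases hp with rfl | rfl | rfl | rfl <;> simp [Prod.ext_iff, hA.1]
    have hA' : (1 : Multiplicative (ZMod (2 ^ n))) ≠ A := Ne.symm hA.2
    have hTc : T.card = 4 := by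
      rw [Finset.card_image_of_injective _ (fun p p' hpp => f.symm.injective (Subtype.ext hpp)),
        Finset.card_insert_of_notMem (by simp [Prod.ext_iff, hA', hA.2]),
        Finset.card_insert_of_notMem (by simp [Prod.ext_iff, hA', hA.2]),
        Finset.card_insert_of_notMem (by simp [Prod.ext_iff, hA', hA.2]), Finset.card_singleton]
    have hTΦ : ∀ x ∈ T, x ∈ Φ := fun x hx => by
      obtain ⟨hxQ, hx2⟩ := hT x hx
      by_contra hxF
      refine hMe ?_
      have := mul_mem (mem_sup_left (T := Φ) hxQ) (inv_mem (mem_sup_right (S := Q) (h.outer_coset hx2 hxF)))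
      rwa [mul_inv_rev, inv_inv, mul_inv_cancel_left] at this
    have hwQ : w ∈ Q := by
      by_contra hwQ
      have h5 := frattini_roots h.fr h.cyc (insert w T) fun y hy => by
        rcases Finset.mem_insert.mp hy with rfl | hy
        exacts [⟨hwF, hw2⟩, ⟨hTΦ y hy, (hT y hy).2⟩]
      rw [Finset.card_insert_of_notMem fun hwT => hwQ (hT w hwT).1, hTc] at h5
      omega
    refine hwc fun u => ?_
    have hc : closure ({g, e} : Set ↥(P : Subgroup G)) ≤ centralizer {w} := by
      rw [closure_le]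
      rintro t (rfl | rfl)
      · exact mem_centralizer_singleton_iff.mpr (hab _ hgQ _ hwQ)
      · exact mem_centralizer_singleton_iff.mpr (h.root_comm hwF hw2).symm
    rw [hgen] at hc
    exact mem_centralizer_singleton_iff.mp (hc (mem_top u))

/-- Central case: an inner root is conjugate to an involution outside, and to no other inner root. -/
theorem central_false (hG : ¬ IsMulCommutative G) (h : Eight a b e E)
    (hW : ∀ w ∈ frattini ↥(P : Subgroup G), w * w = 1 → ∀ g, g * w = w * g) : False := by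
  classical
  haveI : Fact (Nat.Prime 2) := ⟨Nat.prime_two⟩
  set Φ := frattini ↥(P : Subgroup G)
  have hcen : ∀ {w : ↥(P : Subgroup G)}, w ∈ Φ → w * w = 1 → ∀ g ∈ (P : Subgroup G), g * (w : G) = w * g :=
    fun {w} hw hw2 g hg => congrArg Subtype.val (hW w hw hw2 ⟨g, hg⟩)
  -- no fusion among inner roots
  have hnf : ∀ {v w : ↥(P : Subgroup G)}, v ∈ Φ → v * v = 1 → w ∈ Φ → w * w = 1 → IsConj (v : G) w → v = w := by
    intro v w hv hv2 hw hw2 hc
    obtain ⟨g, hg⟩ := isConj_iff.mp hc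
    have hcc : ∀ {x : ↥(P : Subgroup G)}, x ∈ Φ → x * x = 1 → (x : G) ∈ centralizer ((P : Subgroup G) : Set G) :=
      fun {x} hx hx2 => mem_centralizer_iff.mpr fun p hp => hcen hx hx2 p hp
    obtain ⟨n, hn, hne⟩ := P.conj_eq_normalizer_conj_of_mem_centralizer (v : G) g⁻¹ (hcc hv hv2)
      (by rw [inv_inv, hg]; exact hcc hw hw2)
    rw [inv_inv, hg] at hne
    -- `n` induces an automorphism of two-power order
    let α := (P : Subgroup G).normalizerMonoidHom ⟨n, hn⟩
    obtain ⟨k, hk⟩ := h.fr.isPGroup_mulAut α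
    set N := normalizer ((P : Subgroup G) : Set G)
    set m : N := ⟨n, hn⟩
    haveI : ((P : Subgroup G).subgroupOf N).Normal := Subgroup.normal_in_normalizer
    have hodd : Odd ((P : Subgroup G).subgroupOf N).index := by
      refine Nat.odd_iff.mpr (Nat.two_dvd_ne_zero.mp fun h2 => P.not_dvd_index ?_)
      rw [← relIndex_mul_index (le_normalizer (H := (P : Subgroup G)))]
      exact dvd_mul_of_dvd_left h2 _
    have hfix : ∀ l : ℕ, (2 ^ k ∣ l ∨ ((P : Subgroup G).subgroupOf N).index ∣ l) →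
        ((P : Subgroup G).normalizerMonoidHom (m ^ l)) v = v := by
      intro l hl
      rcases hl with ⟨j, rfl⟩ | ⟨j, rfl⟩
      · rw [map_pow, pow_mul, hk, one_pow]; rfl
      · rw [pow_mul]
        have hmem : (m ^ ((P : Subgroup G).subgroupOf N).index) ^ j ∈ (P : Subgroup G).subgroupOf N :=
          Subgroup.pow_mem _ (Subgroup.pow_index_mem _ _) j
        refine Subtype.ext ?_
        show ((((m ^ ((P : Subgroup G).subgroupOf N).index) ^ j : N) : G)) * v * _⁻¹ = _
        rw [hcen hv hv2 _ (Subgroup.mem_subgroupOf.mp hmem), mul_inv_cancel_right]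
    obtain ⟨i, j, hij⟩ : ∃ i j : ℕ, ((P : Subgroup G).subgroupOf N).index * i = 2 ^ k * j + 1 := by
      obtain ⟨i, -, hi⟩ := Nat.exists_mul_mod_eq_one_of_coprime (k := 2 ^ (k + 1))
        (Nat.Coprime.pow_right _ (Nat.coprime_two_right.mpr hodd)) (Nat.one_lt_two_pow (by omega))
      refine ⟨i, 2 * ((((P : Subgroup G).subgroupOf N).index * i) / 2 ^ (k + 1)), ?_⟩
      have h3 := Nat.div_add_mod ((((P : Subgroup G).subgroupOf N).index * i)) (2 ^ (k + 1))
      rw [hi] at h3
      conv_lhs => rw [← h3]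
      rw [pow_succ]; ring
    have h1 : α v = v := by
      have h2 := hfix _ (Or.inr (dvd_mul_right _ i))
      rw [hij, pow_add, map_mul, pow_one, map_pow, pow_mul, hk, one_pow, one_mul] at h2
      exact h2
    refine Subtype.ext ?_
    have h3 := congrArg Subtype.val h1
    change n * (v : G) * n⁻¹ = v at h3
    -- `n⁻¹ v n = w`
    have h4 : n⁻¹ * (v : G) * n = w := hne.symm
    rw [← h4]
    calc (v : G) = n⁻¹ * (n * v * n⁻¹) * n := by group
      _ = n⁻¹ * v * n := by rw [h3]
  -- each is moved outside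
  have hmoved : ∀ w : ↥(P : Subgroup G), w ∈ Φ → w * w = 1 → w ≠ 1 →
      ∃ x : ↥(P : Subgroup G), x * x = 1 ∧ x ∉ Φ ∧ IsConj (w : G) x := by
    intro w hw hw2 hw1
    have hz : orderOf (w : G) = 2 := by
      rw [orderOf_coe]; exact orderOf_eq_prime (by rw [pow_two]; exact hw2) hw1
    obtain ⟨g, hgc, hgne⟩ : ∃ g : G, Commute (w : G) (g * w * g⁻¹) ∧ g * (w : G) * g⁻¹ ≠ w := by
      by_contra hne
      push Not at hne
      have hm := fun g : G => CfsgLib.ZStar.commutator_mem (u := (w : G)) hz (fun g hg => hne g hg) g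
      have hbot : pPrimeCore 2 G = ⊥ :=
        (inferInstance : (pPrimeCore 2 G).Normal).eq_bot_or_eq_top.resolve_right fun h0 => by
          refine CfsgLib.not_dvd_card_pPrimeCore (G := G) Nat.prime_two ?_
          rw [h0, Subgroup.card_top]
          exact hz ▸ orderOf_dvd_natCard _
      have hc : (w : G) ∈ Subgroup.center G := Subgroup.mem_center_iff.mpr fun g => by
        have e1 := hm g
        rw [hbot, Subgroup.mem_bot, mul_inv_eq_one, mul_inv_eq_iff_eq_mul] at e1
        exact e1.symm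
      rw [center_eq_bot hG, Subgroup.mem_bot] at hc
      exact hw1 (Subtype.ext hc)
    set w' := g * (w : G) * g⁻¹ with hw'
    have hwo : orderOf w' = 2 :=
      (orderOf_injective (MulAut.conj g).toMonoidHom (MulEquiv.injective _) _).trans hz
    obtain ⟨c, hcz, hcS⟩ := CfsgLib.RankTwoSylow.exists_conj_into P (hcen hw hw2) (Q := zpowers w')
      (IsPGroup.of_card (n := 1) (by rw [Nat.card_zpowers, hwo, pow_one])) (fun q hq => by
        obtain ⟨k, rfl⟩ := mem_zpowers_iff.mp hq
        exact ((hgc.symm).zpow_left k).eq)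
    set x : ↥(P : Subgroup G) := ⟨c * w' * c⁻¹, hcS w' (mem_zpowers w')⟩
    have hx2 : x * x = 1 := Subtype.ext (by
      show c * w' * c⁻¹ * (c * w' * c⁻¹) = 1
      rw [show c * w' * c⁻¹ * (c * w' * c⁻¹) = c * (w' * w') * c⁻¹ by group, ← pow_two,
        orderOf_dvd_iff_pow_eq_one.mp (dvd_of_eq hwo), mul_one, mul_inv_cancel])
    have hcj : IsConj (w : G) x := isConj_iff.mpr ⟨c * g, by
      show c * g * (w : G) * (c * g)⁻¹ = c * w' * c⁻¹
      rw [hw']; group⟩
    refine ⟨x, hx2, fun hxF => ?_, hcj⟩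
    have := hnf hw hw2 hxF hx2 hcj
    have e1 : c * w' * c⁻¹ = c * (w : G) * c⁻¹ := (congrArg Subtype.val this).symm.trans hcz.symm
    exact hgne (mul_left_cancel (mul_right_cancel e1))
  -- three of them
  obtain ⟨τ, hτi, hτ⟩ : ∃ τ : Fin 3 → ↥(P : Subgroup G), Function.Injective τ ∧
      ∀ i, τ i ∈ Φ ∧ τ i * τ i = 1 ∧ τ i ≠ 1 := by
    set W : Subgroup ↥(P : Subgroup G) := E ⊓ Φ
    letI := Fintype.ofFinite W
    have hc : ((Finset.univ : Finset W).erase 1).card = 3 := by
      rw [Finset.card_erase_of_mem (Finset.mem_univ _), Finset.card_univ, ← Nat.card_eq_fintype_card, h.inner_card.1]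
    let eq := Finset.equivFinOfCardEq hc
    refine ⟨fun i => ((eq.symm i).1 : ↥(P : Subgroup G)), fun i j hij => eq.symm.injective (Subtype.ext (Subtype.ext hij)),
      fun i => ⟨(eq.symm i).1.2.2, h.esq _ (eq.symm i).1.2.1, fun h1 => ?_⟩⟩
    exact Finset.ne_of_mem_erase (eq.symm i).2 (Subtype.ext h1)
  choose x hx2 hxF hxc using fun i => hmoved (τ i) (hτ i).1 (hτ i).2.1 (hτ i).2.2
  obtain ⟨i, j, hij, hc⟩ := h.three_conj hx2 hxF
  exact hij (hτi (hnf (hτ i).1 (hτ i).2.1 (hτ j).1 (hτ j).2.1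
    (((hxc i).trans ((P : Subgroup G).subtype.map_isConj hc)).trans (hxc j).symm)))

/-- **A simple group with bicyclic Sylow 2-subgroups has two-rank at most two.** -/
theorem bicyclic_rank (hG : ¬ IsMulCommutative G)
    (hb : ∃ x y : ↥(P : Subgroup G), ∀ g : ↥(P : Subgroup G), ∃ i j : ℤ, g = x ^ i * y ^ j) :
    PRankLE 2 2 G := by
  haveI : Fact (Nat.Prime 2) := ⟨Nat.prime_two⟩
  intro E0 hE0 hE02
  by_contra hlt
  push Not at hlt
  obtain ⟨R, hR⟩ := (show IsPGroup 2 E0 from fun x => ⟨1, Subtype.ext (by simpa using hE02 x x.2)⟩).exists_le_sylow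
  let f := Sylow.equiv R P
  let E : Subgroup ↥(P : Subgroup G) := (E0.subgroupOf (R : Subgroup G)).map f.toMonoidHom
  have hcard : Nat.card E = Nat.card E0 := by
    rw [Subgroup.card_map_of_injective (f := f.toMonoidHom) f.injective, Nat.card_congr (subgroupOfEquivOfLe hR).toEquiv]
  have hsq : ∀ x ∈ E, x * x = 1 := by
    rintro _ ⟨x, hx, rfl⟩
    show f x * f x = 1
    rw [← map_mul, show x * x = 1 from Subtype.ext (by rw [Subgroup.coe_mul, ← pow_two]; exact hE02 _ hx), map_one]
  have hab : ∀ x ∈ E, ∀ y ∈ E, x * y = y * x := by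
    rintro _ ⟨x, hx, rfl⟩ _ ⟨y, hy, rfl⟩
    show f x * f y = f y * f x
    rw [← map_mul, ← map_mul]
    refine congrArg f (Subtype.ext ?_)
    exact congrArg (fun w : E0 => (w : G)) (hE0.is_comm.comm (⟨(x : G), hx⟩ : E0) ⟨(y : G), hy⟩)
  have h8 : 4 < Nat.card E := by rw [hcard]; simpa using hlt
  have hm : ¬ Cfsg.IsMetacyclic ↥(P : Subgroup G) := fun hm =>
    absurd (card_le_four_of_metacyclic hm E hsq) (not_le.mpr h8)
  by_cases hc : IsCyclic ↥(commutator ↥(P : Subgroup G))
  swap
  · refine not_inner P hG fun x hx g hg => ?_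
    set F := groupFusionSystem (P : Subgroup G)
    have hF : F.IsSaturated 2 := FusionSystem.groupFusionSystem_isSaturated P
    have hmap : conjHom (zpowers x) g ∈ F.Hom _ :=
      FusionSystem.conjHom_mem_groupFusionSystem (zpowers_le.mpr hx) fun y hy => by
        obtain ⟨n, rfl⟩ := mem_zpowers_iff.mp hy
        rw [← conj_zpow]
        exact zpow_mem hg n
    rw [CfsgLib.Bicyclic.inner_of_not_cyclic P.2 hb hm hc F hF] at hmap
    obtain ⟨-, u, hu, hue⟩ := hmap
    exact ⟨u, hu, (hue ⟨x, mem_zpowers x⟩).symm.trans rfl⟩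
  obtain ⟨a, b, Fr⟩ := CfsgLib.Bicyclic.exists_frame P.2 hb hm
  obtain ⟨e, h⟩ := exists_eight Fr hc E hab hsq h8
  by_cases hW : ∀ w ∈ frattini ↥(P : Subgroup G), w * w = 1 → ∀ g, g * w = w * g
  · exact central_false P hG h hW
  push Not at hW
  obtain ⟨w, hwF, hw2, u, hu⟩ := hW
  obtain ⟨g, hg, hge⟩ := h.exists_other
  set M0 := frattini ↥(P : Subgroup G) ⊔ zpowers e
  have hM0 : g ∉ M0 := fun hgM => hge (by
    have hx : g ∈ ((zpowers e ⊔ frattini ↥(P : Subgroup G) : Subgroup _) : Set ↥(P : Subgroup G)) := by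
      rw [sup_comm]; exact hgM
    rw [Subgroup.mul_normal] at hx
    obtain ⟨v, hv, φ, hφ, rfl⟩ := hx
    obtain ⟨k, rfl⟩ := mem_zpowers_iff.mp hv
    rcases Int.even_or_odd' k with ⟨l, rfl | rfl⟩
    · refine absurd ?_ hg
      dsimp only
      rw [zpow_mul, zpow_two, h.ee, one_zpow, one_mul]; exact hφ
    · dsimp only
      rw [zpow_add, zpow_mul, zpow_two, h.ee, one_zpow, one_mul, zpow_one, inv_mul_cancel_left]; exact hφ)
  have hfoc := focal_le P h (M0.map (P : Subgroup G).subtype) (fun x hx y hy =>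
    ⟨⁅(⟨x, hx⟩ : ↥(P : Subgroup G)), ⟨y, hy⟩⁆, mem_sup_left (h.fr.comm_le_frattini
      (commutator_mem_commutator (mem_top _) (mem_top _))), rfl⟩) fun Q hQ => by
    obtain ⟨H, hEs⟩ := CfsgLib.Bicyclic.exists_ess P.2 (FusionSystem.groupFusionSystem_isSaturated P) hQ
    intro q hq
    have hqP : q ∈ (P : Subgroup G) := hQ.1.1 hq
    refine ⟨⟨q, hqP⟩, ?_, rfl⟩
    by_contra hq0
    refine ess_le P h ⟨w, hwF, hw2, fun hall => hu (hall u)⟩ hEs (g := ⟨q, hqP⟩) hq
      (fun hF => hq0 (mem_sup_left hF)) fun hF => hq0 ?_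
    have := mul_mem (mem_sup_right (S := frattini ↥(P : Subgroup G)) (mem_zpowers e)) (mem_sup_left (T := zpowers e) hF)
    rwa [mul_inv_cancel_left] at this
  rw [focal_eq P hG] at hfoc
  obtain ⟨g', hg', he⟩ := hfoc g.2
  exact hM0 ((Subtype.ext he : g' = g) ▸ hg')

end CfsgLib.RankTwoModel.Rows
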