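import Cfsg.Agent.Lib.RankTwoModel.Rows.Main
import Cfsg.Agent.Lib.RankTwoModel.Rows.BicyclicRank

/-!
The row S3290 from the main theorem: the two-rank of a simple group with bicyclic Sylow 2-subgroups is at most two and
the Sylow 2-subgroup of `PSU₃(4)` is not bicyclic.
-/

set_option autoImplicit false
set_option linter.unusedSectionVars false
set_option linter.style.haveILetI false

namespace CfsgLib.RankTwoModel.Rows

open Cfsg

universe u v

theorem sixty_not_bicyclic {W : Type v} [Group W] [Finite W] (h : CfsgLib.SuzukiTwo.Sixty W)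
    (hb : ∃ x y : W, ∀ g : W, ∃ i j : ℤ, g = x ^ i * y ^ j) : False := by
  obtain ⟨x, y, hxy⟩ := hb
  have hord : ∀ w : W, Nat.card (Subgroup.zpowers w) ≤ 4 := fun w => by
    rw [Nat.card_zpowers]
    refine Nat.le_of_dvd (by norm_num) (orderOf_dvd_of_pow_eq_one ?_)
    rw [show (4 : ℕ) = 2 * 2 from rfl, pow_mul, pow_two w, pow_two, h.cen _ (h.sq w)]
  have hs : Function.Surjective (fun p : Subgroup.zpowers x × Subgroup.zpowers y => (p.1 : W) * p.2) := fun g => by
    obtain ⟨i, j, rfl⟩ := hxy g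
    exact ⟨(⟨x ^ i, ⟨i, rfl⟩⟩, ⟨y ^ j, ⟨j, rfl⟩⟩), rfl⟩
  have h16 := (Nat.card_le_card_of_surjective _ hs).trans
    ((Nat.card_prod _ _).le.trans (Nat.mul_le_mul (hord x) (hord y)))
  rw [h.card] at h16
  norm_num at h16

/-- S3290 from the main theorem. -/
theorem bicyclic (main : Main.{u}) {G : Type u} [Group G] [Finite G] [IsSimpleGroup G] (P : Sylow 2 G)
    (hb : ∃ x y : ↥(P : Subgroup G), ∀ g : ↥(P : Subgroup G), ∃ i j : ℤ, g = x ^ i * y ^ j) (h2 : 2 ∣ Nat.card G) :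
    Nat.card G = 2 ∨
      (∃ (K : Type) (_ : Field K) (_ : Fintype K) (q : ℕ), Fintype.card K = q ∧ Odd q ∧
        (Nonempty (G ≃* Matrix.ProjectiveSpecialLinearGroup (Fin 2) K) ∨
          Nonempty (G ≃* Matrix.ProjectiveSpecialLinearGroup (Fin 3) K))) ∨
      (∃ (K : Type) (_ : Field K) (_ : Fintype K) (q : ℕ), Fintype.card K = q ^ 2 ∧ Odd q ∧
        Nonempty (G ≃* Cfsg.PSU 3 K q)) ∨
      Nonempty (G ≃* alternatingGroup (Fin 7)) ∨ Cfsg.IsM11 G := by
  haveI : Fact (Nat.Prime 2) := ⟨Nat.prime_two⟩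
  by_cases hG : IsMulCommutative G
  · left
    letI : CommGroup G := { (inferInstance : Group G) with mul_comm := hG.is_comm.comm }
    exact ((Nat.prime_dvd_prime_iff_eq Nat.prime_two IsSimpleGroup.prime_card).mp h2).symm
  rcases rank_two main hG (bicyclic_rank P hG hb) with ⟨F, iF, iFt, ho, -, he⟩ | ⟨F, iF, iFt, ho, he⟩ | h | hU | h | h
  · exact Or.inr (Or.inl ⟨F, iF, iFt, _, rfl, ho, Or.inl he⟩)
  · exact Or.inr (Or.inl ⟨F, iF, iFt, _, rfl, ho, Or.inr he⟩)
  · exact Or.inr (Or.inr (Or.inl h))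
  · exfalso
    obtain ⟨F, iF, iFt, h16, ⟨e⟩⟩ := hU
    let Q : Sylow 2 (Cfsg.PSU 3 F 4) := P.mapSurjective (f := e.toMonoidHom) e.surjective
    let f : ↥(P : Subgroup G) ≃* ↥(Q : Subgroup (Cfsg.PSU 3 F 4)) :=
      ((P : Subgroup G).equivMapOfInjective e.toMonoidHom e.injective).trans
        (MulEquiv.subgroupCongr (Sylow.coe_mapSurjective e.surjective P).symm)
    exact sixty_not_bicyclic (CfsgLib.U34Recog.sixty_of_equiv f (CfsgLib.SuzukiTwo.sixty h16 Q)) hb
  · exact Or.inr (Or.inr (Or.inr (Or.inl h)))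
  · exact Or.inr (Or.inr (Or.inr (Or.inr h)))

end CfsgLib.RankTwoModel.Rows
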