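import Cfsg.Agent.Lib.Fusion.Bicyclic.Forward
import Cfsg.Agent.Lib.BicyclicFactor.Coset
import Cfsg.Agent.S0572

/-!
A bicyclic 2-group which has an elementary abelian subgroup of order eight and cyclic derived subgroup: the involutions
outside the Frattini subgroup lie in one coset, those inside form a four-group, and there are at most two classes of
the former.
-/

set_option autoImplicit false
set_option linter.unusedSectionVars false
set_option linter.style.haveILetI false
set_option maxHeartbeats 800000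

namespace CfsgLib.RankTwoModel.Rows

open Subgroup
open scoped commutatorElement

universe u

theorem card_le_two_of_cyclic {C : Type*} [Group C] [Finite C] [IsCyclic C] (T : Subgroup C)
    (hT : ∀ x ∈ T, x * x = 1) : Nat.card T ≤ 2 := by
  haveI : IsCyclic T := Subgroup.isCyclic T
  obtain ⟨g, hg⟩ := IsCyclic.exists_ofOrder_eq_natCard (α := T)
  rw [← hg]
  exact Nat.le_of_dvd two_pos (orderOf_dvd_of_pow_eq_one (Subtype.ext (by
    rw [SubgroupClass.coe_pow, pow_two]; exact hT g g.2)))

/-- A metacyclic group has two-rank at most two. -/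
theorem card_le_four_of_metacyclic {S : Type u} [Group S] [Finite S] (hm : Cfsg.IsMetacyclic S) (E : Subgroup S)
    (hE : ∀ x ∈ E, x * x = 1) : Nat.card E ≤ 4 := by
  obtain ⟨N, hN, hNc, hQc⟩ := hm
  haveI := hN
  haveI := hNc
  haveI := hQc
  set f := (QuotientGroup.mk' N).subgroupMap E
  have hmap : Nat.card (E.map (QuotientGroup.mk' N)) ≤ 2 := card_le_two_of_cyclic _ (by
    rintro _ ⟨x, hx, rfl⟩
    rw [← map_mul, hE x hx, map_one])
  have hker : Nat.card (E.subgroupOf N) ≤ 2 := card_le_two_of_cyclic _ fun x hx =>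
    Subtype.ext (hE x (Subgroup.mem_subgroupOf.mp hx))
  have h := Subgroup.card_eq_card_quotient_mul_card_subgroup (α := ↥E) f.ker
  rw [Nat.card_congr (QuotientGroup.quotientKerEquivOfSurjective f
    ((QuotientGroup.mk' N).subgroupMap_surjective E)).toEquiv] at h
  have hk : Nat.card f.ker ≤ Nat.card (E.subgroupOf N) := by
    refine Nat.card_le_card_of_injective (fun x : f.ker => (⟨⟨(x.1 : S), ?_⟩, ?_⟩ : E.subgroupOf N)) ?_
    · exact (QuotientGroup.eq_one_iff (x.1 : S)).mp (congrArg Subtype.val (MonoidHom.mem_ker.mp x.2))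
    · exact x.1.2
    · exact fun x y e => Subtype.ext (Subtype.ext (congrArg (fun w : E.subgroupOf N => ((w : N) : S)) e))
  calc Nat.card E = _ := h
    _ ≤ 2 * 2 := Nat.mul_le_mul hmap (hk.trans hker)

variable {S : Type u} [Group S] [Finite S]

/-- A two-group generated by two involutions is metacyclic. -/
theorem metacyclic_of_two_involutions {e e' : S} (he : e * e = 1) (he' : e' * e' = 1)
    (hgen : closure ({e, e'} : Set S) = ⊤) : Cfsg.IsMetacyclic S := by
  set x := e * e'
  have hinv : ∀ {t : S}, t = e ∨ t = e' → t * x * t⁻¹ = x⁻¹ := by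
    intro t ht
    have ei : e⁻¹ = e := inv_eq_of_mul_eq_one_right he
    have ei' : e'⁻¹ = e' := inv_eq_of_mul_eq_one_right he'
    rcases ht with rfl | rfl
    · rw [mul_inv_rev, ei, ei', ← mul_assoc, he, one_mul]
    · rw [mul_inv_rev, ei, ei']
      calc t * (e * t) * t = t * e * (t * t) := by group
        _ = t * e := by rw [he', mul_one]
  have hN : (zpowers x).Normal := by
    refine ⟨fun y hy g => ?_⟩
    obtain ⟨k, rfl⟩ := mem_zpowers_iff.mp hy
    suffices g * x * g⁻¹ ∈ zpowers x by rw [← conj_zpow]; exact zpow_mem this k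
    have hg : g ∈ closure ({e, e'} : Set S) := hgen ▸ mem_top g
    have key : g * x * g⁻¹ ∈ zpowers x ∧ g⁻¹ * x * g ∈ zpowers x := by
      induction hg using closure_induction with
      | mem t ht =>
        have h1 := hinv (t := t) (by simpa using ht)
        have ti : t⁻¹ = t := by
          rcases (show t = e ∨ t = e' by simpa using ht) with rfl | rfl
          exacts [inv_eq_of_mul_eq_one_right he, inv_eq_of_mul_eq_one_right he']
        refine ⟨h1 ▸ inv_mem (mem_zpowers x), ?_⟩
        rw [ti] at h1 ⊢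
        exact h1 ▸ inv_mem (mem_zpowers x)
      | one => simp [mem_zpowers]
      | mul g h _ _ ihg ihh =>
        obtain ⟨i, hi⟩ := mem_zpowers_iff.mp ihh.1
        obtain ⟨j, hj⟩ := mem_zpowers_iff.mp ihg.2
        refine ⟨?_, ?_⟩
        · rw [show g * h * x * (g * h)⁻¹ = g * (h * x * h⁻¹) * g⁻¹ by group, ← hi, ← conj_zpow]
          exact zpow_mem ihg.1 i
        · have e1 : (g * h)⁻¹ * x * (g * h) = h⁻¹ * (g⁻¹ * x * g) * h := by group
          rw [e1, ← hj]
          have := zpow_mem ihh.2 j
          rwa [show (h⁻¹ * x * h) ^ j = h⁻¹ * x ^ j * h by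
            have := conj_zpow (a := h⁻¹) (b := x) (i := j); rwa [inv_inv] at this] at this
      | inv g _ ih => exact ⟨by simpa using ih.2, by simpa using ih.1⟩
    exact key.1
  refine ⟨zpowers x, hN, inferInstance, ⟨⟨QuotientGroup.mk' _ e, fun z => ?_⟩⟩⟩
  obtain ⟨g, rfl⟩ := QuotientGroup.mk'_surjective _ z
  have hle : closure ({e, e'} : Set S) ≤
      (zpowers (QuotientGroup.mk' (zpowers x) e)).comap (QuotientGroup.mk' _) := by
    rw [closure_le]
    rintro t (rfl | rfl)
    · exact mem_zpowers _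
    · show QuotientGroup.mk' (zpowers x) t ∈ zpowers _
      rw [show QuotientGroup.mk' (zpowers x) t = (QuotientGroup.mk' (zpowers x) e)⁻¹ by
        rw [eq_inv_iff_mul_eq_one, ← map_mul]
        exact (QuotientGroup.eq_one_iff _).mpr (by
          have e1 : t * e = (e * t)⁻¹ := by
            rw [mul_inv_rev, inv_eq_of_mul_eq_one_right he, inv_eq_of_mul_eq_one_right he']
          rw [e1]; exact inv_mem (mem_zpowers x))]
      exact inv_mem (mem_zpowers _)
  exact hle (hgen ▸ mem_top g)

/-- The standing hypotheses. -/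
structure Eight (a b e : S) (E : Subgroup S) : Prop where
  fr : CfsgLib.Bicyclic.Frame a b
  cyc : IsCyclic ↥(commutator S)
  eab : ∀ x ∈ E, ∀ y ∈ E, x * y = y * x
  esq : ∀ x ∈ E, x * x = 1
  ecard : 4 < Nat.card E
  eE : e ∈ E
  eout : e ∉ frattini S

theorem frattini_roots {a b : S} (F : CfsgLib.Bicyclic.Frame a b) (hc : IsCyclic ↥(commutator S)) (T : Finset S)
    (hT : ∀ x ∈ T, x ∈ frattini S ∧ x * x = 1) : T.card ≤ 4 := by
  classical
  haveI := hc
  set K := commutator S with hK
  set π := QuotientGroup.mk' K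
  have hπ : ∀ {x : S}, x ∈ frattini S → π x ∈ zpowers (π (a ^ 2)) := fun {x} hx => by
    obtain ⟨i, s, hs, rfl⟩ := F.frattini_form hx
    rw [map_mul, show π s = 1 from (QuotientGroup.eq_one_iff s).mpr hs, mul_one, pow_mul, map_pow]
    exact Subgroup.pow_mem _ (mem_zpowers _) i
  -- in each coset at most two
  have hfib : ∀ x0 ∈ T, (T.filter fun x => π x = π x0).card ≤ 2 := by
    intro x0 hx0
    obtain ⟨hx0F, hx02⟩ := hT x0 hx0
    obtain ⟨i, s, hs, hxe⟩ := F.frattini_form hx0F
    obtain ⟨c, hc⟩ := IsCyclic.exists_generator (α := ↥K)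
    obtain ⟨r, hr⟩ := CfsgLib.Metacyclic.exists_power (N := K) a
    have hconj : ∀ d ∈ K, x0 * d * x0⁻¹ = d ^ r ^ (2 * i) := fun d hd => by
      rw [hxe, show a ^ (2 * i) * s * d * (a ^ (2 * i) * s)⁻¹ =
        a ^ (2 * i) * (s * d * s⁻¹) * (a ^ (2 * i))⁻¹ by group, F.comm_comm hs hd, mul_inv_cancel_right, hr d hd]
    have hall : ∀ d ∈ K, (x0 * d) * (x0 * d) = 1 → d * d = 1 := by
      intro d hd h1
      have h2 : d ^ (r ^ (2 * i) + 1) = 1 := by
        rw [pow_succ, ← hconj d hd]
        calc x0 * d * x0⁻¹ * d = x0 * d * (x0 * d) := by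
              rw [inv_eq_of_mul_eq_one_right hx02]; group
          _ = 1 := h1
      obtain ⟨k, hk⟩ := IsPGroup.iff_orderOf.mp F.two d
      have hdvd := orderOf_dvd_of_pow_eq_one h2
      rw [hk] at hdvd
      have hk1 : k ≤ 1 := by
        by_contra hk1
        have h4 : 4 ∣ r ^ (2 * i) + 1 := dvd_trans (pow_dvd_pow 2 (by omega : 2 ≤ k)) hdvd
        rw [mul_comm, pow_mul, pow_two] at h4
        obtain ⟨m, hm⟩ := Nat.dvd_of_mod_eq_zero (Nat.mod_eq_zero_of_dvd h4) |> fun h => (h : 4 ∣ _)
        rcases Nat.even_or_odd' (r ^ i) with ⟨j, hj | hj⟩ <;> rw [hj] at hm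
        · have : (2 * j) * (2 * j) = 4 * (j * j) := by ring
          omega
        · have : (2 * j + 1) * (2 * j + 1) = 4 * (j * j + j) + 1 := by ring
          omega
      rw [← sq]
      refine orderOf_dvd_iff_pow_eq_one.mp ?_
      rw [hk]
      exact (pow_dvd_pow 2 hk1).trans (by norm_num)
    let T' : Subgroup ↥K :=
      { carrier := {d | d * d = 1}
        one_mem' := one_mul 1
        mul_mem' := fun {d d'} hd hd' => by
          show d * d' * (d * d') = 1
          have hcc : d' * d = d * d' := Subtype.ext (F.comm_comm d'.2 d.2)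
          rw [mul_assoc, ← mul_assoc d', hcc, mul_assoc, show d' * d' = 1 from hd', mul_one]
          exact hd
        inv_mem' := fun {d} hd => by
          show d⁻¹ * d⁻¹ = 1
          rw [← mul_inv_rev, show d * d = 1 from hd, inv_one] }
    have hmemK : ∀ x ∈ T.filter fun x => π x = π x0, x0⁻¹ * x ∈ K := fun x hx =>
      QuotientGroup.eq.mp (Finset.mem_filter.mp hx).2.symm
    calc (T.filter fun x => π x = π x0).card
        = Nat.card ↥(T.filter fun x => π x = π x0) := (Nat.card_eq_finsetCard _).symm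
      _ ≤ Nat.card ↥T' := by
          refine Nat.card_le_card_of_injective (fun x => ⟨⟨x0⁻¹ * x.1, hmemK x.1 x.2⟩, Subtype.ext ?_⟩) ?_
          · exact hall _ (hmemK x.1 x.2) (by
              rw [mul_inv_cancel_left]; exact (hT x.1 (Finset.mem_filter.mp x.2).1).2)
          · exact fun x y h => Subtype.ext (mul_left_cancel (congrArg (fun w : T' => ((w : ↥K) : S)) h))
      _ ≤ 2 := card_le_two_of_cyclic T' fun d hd => hd
  -- at most two cosets
  have himg : (T.image π).card ≤ 2 := by
    let U : Subgroup ↥(zpowers (π (a ^ 2))) :=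
      { carrier := {d | d * d = 1}
        one_mem' := one_mul 1
        mul_mem' := fun {d d'} hd hd' => by
          show d * d' * (d * d') = 1
          letI := IsCyclic.commGroup (α := ↥(zpowers (π (a ^ 2))))
          rw [mul_mul_mul_comm, show d * d = 1 from hd, show d' * d' = 1 from hd', mul_one]
        inv_mem' := fun {d} hd => by
          show d⁻¹ * d⁻¹ = 1
          rw [← mul_inv_rev, show d * d = 1 from hd, inv_one] }
    calc (T.image π).card = Nat.card ↥(T.image π) := (Nat.card_eq_finsetCard _).symm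
      _ ≤ Nat.card ↥U := by
          have hm : ∀ y ∈ T.image π, y ∈ zpowers (π (a ^ 2)) ∧ y * y = 1 := fun y hy => by
            obtain ⟨x, hx, rfl⟩ := Finset.mem_image.mp hy
            exact ⟨hπ (hT x hx).1, by rw [← map_mul, (hT x hx).2, map_one]⟩
          exact Nat.card_le_card_of_injective (fun y => (⟨⟨y.1, (hm y.1 y.2).1⟩, Subtype.ext (hm y.1 y.2).2⟩ : U))
            fun x y h => Subtype.ext (congrArg (fun w : U => ((w : ↥(zpowers (π (a ^ 2)))) : S ⧸ K)) h)
      _ ≤ 2 := card_le_two_of_cyclic U fun d hd => hd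
  calc T.card ≤ 2 * (T.image π).card :=
        Finset.card_le_mul_card_image _ 2 fun y hy => by
          obtain ⟨x, hx, rfl⟩ := Finset.mem_image.mp hy
          exact hfib x hx
    _ ≤ 2 * 2 := Nat.mul_le_mul_left 2 himg

theorem exists_eight {a b : S} (F : CfsgLib.Bicyclic.Frame a b) (hc : IsCyclic ↥(commutator S)) (E : Subgroup S)
    (hab : ∀ x ∈ E, ∀ y ∈ E, x * y = y * x) (hsq : ∀ x ∈ E, x * x = 1) (hE : 4 < Nat.card E) :
    ∃ e, Eight a b e E := by
  classical
  by_contra hne
  push Not at hne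
  have hall : ∀ x ∈ E, x ∈ frattini S := fun x hx => by
    by_contra hxF
    exact hne x ⟨F, hc, hab, hsq, hE, hx, hxF⟩
  letI := Fintype.ofFinite E
  have h4 := frattini_roots F hc ((Finset.univ : Finset E).image fun x : E => (x : S)) fun x hx => by
    obtain ⟨y, -, rfl⟩ := Finset.mem_image.mp hx
    exact ⟨hall y y.2, hsq y y.2⟩
  rw [Finset.card_image_of_injective _ Subtype.val_injective, Finset.card_univ, ← Nat.card_eq_fintype_card] at h4
  omega

/-- Two elements distinct modulo the Frattini subgroup generate. -/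
theorem gen_of_ne {a b : S} (F : CfsgLib.Bicyclic.Frame a b) {x y : S} (hx : x ∉ frattini S) (hy : y ∉ frattini S)
    (hxy : x⁻¹ * y ∉ frattini S) : closure ({x, y} : Set S) = ⊤ := by
  classical
  haveI : Fact (Nat.Prime 2) := ⟨Nat.prime_two⟩
  refine frattini_nongenerating ?_
  set π := QuotientGroup.mk' (frattini S) with hπ
  set H := (closure ({x, y} : Set S)).map π
  have h4 : Nat.card (S ⧸ frattini S) ≤ 4 := by
    refine le_trans (Nat.card_le_card_of_surjective
      (fun w : Fin 2 × Fin 2 => π (a ^ (w.1 : ℕ) * b ^ (w.2 : ℕ))) fun q => ?_) (by simp)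
    obtain ⟨g, rfl⟩ := QuotientGroup.mk'_surjective (frattini S) q
    obtain ⟨i, ε, hε, s, hs, rfl⟩ := F.exists_form g
    refine ⟨(⟨i % 2, Nat.mod_lt _ two_pos⟩, ⟨ε, hε⟩), ?_⟩
    show π (a ^ (i % 2) * b ^ ε) = π (a ^ i * b ^ ε * s)
    rw [map_mul π (a ^ i * b ^ ε) s, show π s = 1 from (QuotientGroup.eq_one_iff s).mpr (F.comm_le_frattini hs),
      mul_one, map_mul, map_mul]
    conv_rhs => rw [← Nat.mod_add_div i 2, pow_add, map_mul, pow_mul,
      show π ((a ^ 2) ^ (i / 2)) = 1 from (QuotientGroup.eq_one_iff _).mpr (pow_mem (F.sq_mem_frattini a) _), mul_one]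
  have h3 : 3 ≤ Nat.card H := by
    have hm : ∀ z ∈ ({1, π x, π y} : Finset (S ⧸ frattini S)), z ∈ H := by
      intro z hz
      simp only [Finset.mem_insert, Finset.mem_singleton] at hz
      rcases hz with rfl | rfl | rfl
      · exact one_mem _
      · exact mem_map_of_mem _ (subset_closure (Or.inl rfl))
      · exact mem_map_of_mem _ (subset_closure (Or.inr rfl))
    have hc : ({1, π x, π y} : Finset (S ⧸ frattini S)).card = 3 := by
      have h1 : π x ≠ 1 := fun e1 => hx ((QuotientGroup.eq_one_iff x).mp e1)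
      have h2 : π y ≠ 1 := fun e1 => hy ((QuotientGroup.eq_one_iff y).mp e1)
      have h3 : π x ≠ π y := fun e1 => hxy (QuotientGroup.eq.mp e1)
      rw [Finset.card_insert_of_notMem (by simp [Ne.symm h1, Ne.symm h2]),
        Finset.card_insert_of_notMem (by simpa using h3), Finset.card_singleton]
    calc 3 = Nat.card ↥({1, π x, π y} : Finset (S ⧸ frattini S)) := by rw [Nat.card_eq_finsetCard, hc]
      _ ≤ Nat.card H := Nat.card_le_card_of_injective (fun z => (⟨z.1, hm z.1 z.2⟩ : H))
          fun u v e1 => Subtype.ext (congrArg (fun w : H => (w : S ⧸ frattini S)) e1)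
  have htop : H = ⊤ := by
    refine Subgroup.eq_top_of_le_card _ ?_
    obtain ⟨k, hk⟩ := IsPGroup.iff_card.mp ((F.two.to_quotient (frattini S)).to_subgroup H)
    rw [hk] at h3 ⊢
    refine h4.trans ?_
    rcases k with _ | _ | k
    · norm_num at h3
    · norm_num at h3
    · exact Nat.pow_le_pow_right two_pos (by omega : 2 ≤ k + 2)
  refine eq_top_iff.mpr fun g _ => ?_
  have hg : g ∈ H.comap π := by rw [htop]; trivial
  rwa [comap_map_eq, hπ, QuotientGroup.ker_mk'] at hg

namespace Eight

variable {a b e : S} {E : Subgroup S} (h : Eight a b e E)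

include h

theorem ee : e * e = 1 := h.esq e h.eE

/-- Involutions outside the Frattini subgroup lie in the coset of `e`. -/
theorem outer_coset {x : S} (hx : x * x = 1) (hxF : x ∉ frattini S) : e⁻¹ * x ∈ frattini S := by
  by_contra hne
  exact h.fr.not_meta (metacyclic_of_two_involutions h.ee hx (gen_of_ne h.fr h.eout hxF hne))

theorem inner_card : Nat.card (E ⊓ frattini S : Subgroup S) = 4 ∧
    ∀ x ∈ frattini S, x * x = 1 → x ∈ E := by
  classical
  haveI : Fact (Nat.Prime 2) := ⟨Nat.prime_two⟩
  set W := E ⊓ frattini S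
  letI := Fintype.ofFinite W
  let T0 : Finset S := (Finset.univ : Finset W).image fun w : W => (w : S)
  have hT0 : ∀ x ∈ T0, x ∈ frattini S ∧ x * x = 1 := fun x hx => by
    obtain ⟨w, -, rfl⟩ := Finset.mem_image.mp hx
    exact ⟨w.2.2, h.esq w w.2.1⟩
  have hc0 : T0.card = Nat.card W := by
    rw [Finset.card_image_of_injective _ Subtype.val_injective, Finset.card_univ, Nat.card_eq_fintype_card]
  have h4 := frattini_roots h.fr h.cyc T0 hT0
  have hcov : Nat.card E ≤ 2 * Nat.card W := by
    have hout : ∀ y : E, (y : S) ∉ frattini S → e⁻¹ * (y : S) ∈ W := fun y hy =>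
      Subgroup.mem_inf.mpr ⟨mul_mem (InvMemClass.inv_mem h.eE) y.2, h.outer_coset (h.esq y y.2) hy⟩
    let f : E → Bool × W := fun y =>
      if hy : (y : S) ∈ frattini S then (true, ⟨y, y.2, hy⟩) else (false, ⟨e⁻¹ * (y : S), hout y hy⟩)
    have hf : Function.Injective f := by
      intro x y e'
      simp only [f] at e'
      split_ifs at e' with h1 h2
      · exact Subtype.ext (congrArg (fun q : Bool × W => (q.2 : S)) e')
      · exact absurd (congrArg Prod.fst e') Bool.true_eq_false.mp
      · exact absurd (congrArg Prod.fst e') Bool.false_eq_true.mp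
      · exact Subtype.ext (mul_left_cancel (congrArg (fun q : Bool × W => (q.2 : S)) e'))
    have := Nat.card_le_card_of_injective f hf
    rwa [Nat.card_prod, Nat.card_eq_fintype_card (α := Bool), Fintype.card_bool] at this
  have h3 := h.ecard
  obtain ⟨k, hk⟩ := IsPGroup.iff_card.mp (h.fr.two.to_subgroup W)
  have hW4 : Nat.card W = 4 := by
    rw [hk] at hcov ⊢
    rw [hc0, hk] at h4
    rcases k with _ | _ | _ | k
    · norm_num at hcov; omega
    · norm_num at hcov; omega
    · rfl
    · rw [pow_succ, pow_succ, pow_succ] at h4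
      have := Nat.one_le_two_pow (n := k)
      omega
  refine ⟨hW4, fun x hx hx2 => ?_⟩
  by_contra hxE
  have hxT : x ∉ T0 := fun hxT => by
    obtain ⟨w, -, rfl⟩ := Finset.mem_image.mp hxT
    exact hxE w.2.1
  have h5 := frattini_roots h.fr h.cyc (insert x T0) fun y hy => by
    rcases Finset.mem_insert.mp hy with rfl | hy
    exacts [⟨hx, hx2⟩, hT0 y hy]
  rw [Finset.card_insert_of_notMem hxT, hc0, hW4] at h5
  omega

theorem root_comm {x : S} (hx : x ∈ frattini S) (hx2 : x * x = 1) : x * e = e * x :=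
  h.eab x (h.inner_card.2 x hx hx2) e h.eE

theorem gen {g : S} (hg : g ∉ frattini S) (hge : e⁻¹ * g ∉ frattini S) : closure ({g, e} : Set S) = ⊤ := by
  rw [Set.pair_comm]
  exact gen_of_ne h.fr h.eout hg hge

/-- The Frattini subgroup lies in `⟨g²⟩ K`. -/
theorem frattini_le {g : S} (hg : g ∉ frattini S) (hge : e⁻¹ * g ∉ frattini S) :
    frattini S ≤ zpowers (g * g) ⊔ commutator S := by
  have hgen := h.gen hg hge
  have hMe : e ∉ zpowers g ⊔ frattini S := fun he => h.fr.not_cyclic g (by
    rw [eq_top_iff, ← hgen, closure_le]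
    rintro t (rfl | rfl)
    · exact mem_sup_left (mem_zpowers _)
    · exact he)
  set M := zpowers g ⊔ commutator S
  haveI : M.Normal := Subgroup.Normal.of_commutator_le S (le_sup_right : commutator S ≤ zpowers g ⊔ commutator S)
  have htop : zpowers e ⊔ M = ⊤ := by
    rw [eq_top_iff, ← hgen, closure_le]
    rintro t (rfl | rfl)
    · exact mem_sup_right (mem_sup_left (mem_zpowers _))
    · exact mem_sup_left (mem_zpowers _)
  intro x hx
  have hxM : x ∈ M := by
    have hx' : x ∈ ((zpowers e ⊔ M : Subgroup S) : Set S) := by rw [htop]; trivial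
    rw [Subgroup.mul_normal] at hx'
    obtain ⟨u, hu, m, hm, rfl⟩ := hx'
    obtain ⟨k, rfl⟩ := mem_zpowers_iff.mp hu
    have hle : M ≤ zpowers g ⊔ frattini S := sup_le_sup_left h.fr.comm_le_frattini _
    rcases Int.even_or_odd' k with ⟨l, rfl | rfl⟩
    · dsimp only; rw [zpow_mul, zpow_two, h.ee, one_zpow, one_mul]; exact hm
    · refine absurd ?_ hMe
      have := mul_mem (mem_sup_right (S := zpowers g) hx) (inv_mem (hle hm))
      dsimp only at this
      rwa [mul_inv_cancel_right, zpow_add, zpow_mul, zpow_two, h.ee, one_zpow, one_mul, zpow_one] at this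
  have hx' : x ∈ ((zpowers g ⊔ commutator S : Subgroup S) : Set S) := hxM
  rw [Subgroup.mul_normal] at hx'
  obtain ⟨u, hu, s, hs, rfl⟩ := hx'
  obtain ⟨k, rfl⟩ := mem_zpowers_iff.mp hu
  have hgk : g ^ k ∈ frattini S := by
    have := mul_mem hx (inv_mem (h.fr.comm_le_frattini hs))
    dsimp only at this
    rwa [mul_inv_cancel_right] at this
  rcases Int.even_or_odd' k with ⟨l, rfl | rfl⟩
  · refine mul_mem (mem_sup_left ?_) (mem_sup_right hs)
    rw [zpow_mul, zpow_two]
    exact ⟨l, rfl⟩
  · refine absurd ?_ hg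
    have h2 : (g ^ (2 : ℤ)) ^ l ∈ frattini S := zpow_mem (by rw [zpow_ofNat]; exact h.fr.sq_mem_frattini g) l
    have := mul_mem (inv_mem h2) hgk
    rwa [zpow_add, zpow_mul, zpow_one, ← mul_assoc, inv_mul_cancel, one_mul] at this

theorem exists_other : ∃ g, g ∉ frattini S ∧ e⁻¹ * g ∉ frattini S := by
  by_cases ha : e⁻¹ * a ∈ frattini S
  · refine ⟨b, h.fr.b_not_frattini, fun hb => h.fr.not_cyclic a (eq_top_iff.mpr ?_)⟩
    rw [← h.fr.gen, closure_le]
    rintro t (rfl | rfl)
    · exact mem_sup_left (mem_zpowers _)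
    · have hab : a⁻¹ * t ∈ frattini S := by
        have := mul_mem (inv_mem ha) hb
        rwa [mul_inv_rev, inv_inv, mul_assoc, mul_inv_cancel_left] at this
      have := mul_mem (mem_sup_left (T := frattini S) (mem_zpowers a)) (mem_sup_right hab)
      rwa [mul_inv_cancel_left] at this
  · exact ⟨a, h.fr.a_not_frattini, ha⟩

/-- At most two classes of involutions outside the Frattini subgroup. -/
theorem three_conj {x : Fin 3 → S} (hx : ∀ i, x i * x i = 1) (hxF : ∀ i, x i ∉ frattini S) :
    ∃ i j, i ≠ j ∧ IsConj (x i) (x j) := by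
  classical
  haveI := h.cyc
  set K := commutator S with hK
  obtain ⟨g, hg, hge⟩ := h.exists_other
  set π := QuotientGroup.mk' K
  have hc : ∀ u v : S ⧸ K, u * v = v * u := fun u v => by
    obtain ⟨u, rfl⟩ := QuotientGroup.mk'_surjective K u
    obtain ⟨v, rfl⟩ := QuotientGroup.mk'_surjective K v
    rw [← commutatorElement_eq_one_iff_mul_comm, ← map_commutatorElement]
    exact (QuotientGroup.eq_one_iff _).mpr (commutator_mem_commutator (mem_top _) (mem_top _))
  set φ : Fin 3 → S ⧸ K := fun i => π (e⁻¹ * x i)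
  have hmem : ∀ i, φ i ∈ zpowers (π (a ^ 2)) ∧ φ i * φ i = 1 := fun i => by
    refine ⟨?_, ?_⟩
    · obtain ⟨j, s, hs, hj⟩ := h.fr.frattini_form (h.outer_coset (hx i) (hxF i))
      show π (e⁻¹ * x i) ∈ _
      rw [hj, map_mul, show π s = 1 from (QuotientGroup.eq_one_iff s).mpr hs, mul_one, pow_mul, map_pow]
      exact Subgroup.pow_mem _ (mem_zpowers _) j
    · show π (e⁻¹ * x i) * π (e⁻¹ * x i) = 1
      rw [map_mul, mul_assoc, ← mul_assoc (π (x i)), hc (π (x i)) (π e⁻¹), mul_assoc, ← map_mul π (x i), hx i,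
        map_one, mul_one, ← map_mul, ← mul_inv_rev, h.ee, inv_one, map_one]
  let U : Subgroup ↥(zpowers (π (a ^ 2))) :=
    { carrier := {d | d * d = 1}
      one_mem' := one_mul 1
      mul_mem' := fun {d d'} hd hd' => by
        show d * d' * (d * d') = 1
        letI := IsCyclic.commGroup (α := ↥(zpowers (π (a ^ 2))))
        rw [mul_mul_mul_comm, show d * d = 1 from hd, show d' * d' = 1 from hd', mul_one]
      inv_mem' := fun {d} hd => by
        show d⁻¹ * d⁻¹ = 1
        rw [← mul_inv_rev, show d * d = 1 from hd, inv_one] }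
  obtain ⟨i, j, hij, hφ⟩ : ∃ i j, i ≠ j ∧ φ i = φ j := by
    by_contra hne
    push Not at hne
    have : Nat.card (Fin 3) ≤ Nat.card U :=
      Nat.card_le_card_of_injective (fun i => (⟨⟨φ i, (hmem i).1⟩, Subtype.ext (hmem i).2⟩ : U)) fun i j e' => by
        by_contra hij
        exact hne i j hij (congrArg (fun w : U => ((w : ↥(zpowers (π (a ^ 2)))) : S ⧸ K)) e')
    rw [Nat.card_eq_fintype_card, Fintype.card_fin] at this
    have h2 := card_le_two_of_cyclic U fun d hd => hd
    omega
  have hk : (x i)⁻¹ * x j ∈ K := by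
    have := QuotientGroup.eq.mp hφ
    rwa [mul_inv_rev, inv_inv, mul_assoc, mul_inv_cancel_left] at this
  have hgi : closure ({g, x i} : Set S) = ⊤ := by
    rw [Set.pair_comm]
    refine gen_of_ne h.fr (hxF i) hg fun h' => hge ?_
    have := mul_mem (h.outer_coset (hx i) (hxF i)) h'
    rwa [mul_assoc, mul_inv_cancel_left] at this
  let T' : Subgroup ↥K :=
    { carrier := {d | d * d = 1}
      one_mem' := one_mul 1
      mul_mem' := fun {d d'} hd hd' => by
        show d * d' * (d * d') = 1
        letI := IsCyclic.commGroup (α := ↥K)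
        rw [mul_mul_mul_comm, show d * d = 1 from hd, show d' * d' = 1 from hd', mul_one]
      inv_mem' := fun {d} hd => by
        show d⁻¹ * d⁻¹ = 1
        rw [← mul_inv_rev, show d * d = 1 from hd, inv_one] }
  have hroots : Nat.card {d : ↥K // d * d = 1} ≤ 4 :=
    (le_of_eq (Nat.card_congr (Equiv.refl {d : ↥K // d * d = 1}) : Nat.card {d : ↥K // d * d = 1} = Nat.card T')).trans
      ((card_le_two_of_cyclic T' fun d hd => hd).trans (by norm_num))
  have hab : IsMulCommutative ↥K := by
    letI := IsCyclic.commGroup (α := ↥K)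
    exact ⟨⟨mul_comm⟩⟩
  have := CfsgLib.BicyclicFactor.isConj_mul_commutator h.fr.two (hx i) hgi hab hroots hk
  rw [mul_inv_cancel_left] at this
  exact ⟨i, j, hij, this⟩

end Eight

end CfsgLib.RankTwoModel.Rows
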