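import Mathlib
import Cfsg.Agent.Lib.Elementary

/-!
The number of involutions of a group and of a Sylow 2-subgroup of order at least four agree modulo four.

An involution `t` outside the Sylow subgroup `S` either has an orbit of length divisible by four, or commutes with a
maximal subgroup `M` of `S`; those fall into quadruples `t, t z, s t s⁻¹, s t z s⁻¹` with `z ∈ M` central in `S`.
-/

set_option autoImplicit false
set_option linter.unusedSectionVars false
set_option linter.style.haveILetI false
set_option maxHeartbeats 1000000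

namespace CfsgLib.RankTwoModel.Rows

universe u

theorem four_dvd_of_pair {X : Type u} [Finite X] (f g : X → X) (hf : ∀ x, f (f x) = x) (hg : ∀ x, g (g x) = x)
    (hfg : ∀ x, f (g x) = g (f x)) (h1 : ∀ x, f x ≠ x) (h2 : ∀ x, g x ≠ x) (h3 : ∀ x, f x ≠ g x) :
    4 ∣ Nat.card X := by
  classical
  letI := Fintype.ofFinite X
  suffices H : ∀ (n : ℕ) (A : Finset X), A.card = n → (∀ x ∈ A, f x ∈ A) → (∀ x ∈ A, g x ∈ A) → 4 ∣ n by
    rw [Nat.card_eq_fintype_card]
    exact H _ Finset.univ Finset.card_univ (fun _ _ => Finset.mem_univ _) fun _ _ => Finset.mem_univ _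
  intro n
  induction n using Nat.strong_induction_on with
  | _ n ih =>
    intro A hA hAf hAg
    rcases A.eq_empty_or_nonempty with rfl | ⟨x, hx⟩
    · simp [← hA]
    set B : Finset X := {x, f x, g x, f (g x)}
    have h4 : f (g x) ≠ x := fun e => h3 x (by rw [← congrArg f e, hf])
    have hB : B.card = 4 := by
      rw [Finset.card_insert_of_notMem (by simp [Ne.symm (h1 x), Ne.symm (h2 x), Ne.symm h4]),
        Finset.card_insert_of_notMem (by
          simp only [Finset.mem_insert, Finset.mem_singleton, not_or]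
          exact ⟨h3 x, fun e => h2 x ((Function.LeftInverse.injective hf) e).symm⟩),
        Finset.card_insert_of_notMem (by simpa using Ne.symm (h1 (g x))), Finset.card_singleton]
    have hBA : B ⊆ A := by
      intro y hy
      simp only [B, Finset.mem_insert, Finset.mem_singleton] at hy
      rcases hy with rfl | rfl | rfl | rfl
      exacts [hx, hAf _ hx, hAg _ hx, hAf _ (hAg _ hx)]
    have hBf : ∀ y ∈ B, f y ∈ B := by
      intro y hy
      simp only [B, Finset.mem_insert, Finset.mem_singleton] at hy ⊢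
      rcases hy with rfl | rfl | rfl | rfl <;> simp [hf]
    have hBg : ∀ y ∈ B, g y ∈ B := by
      intro y hy
      simp only [B, Finset.mem_insert, Finset.mem_singleton] at hy ⊢
      rcases hy with rfl | rfl | rfl | rfl <;> simp [hg, hfg]
    have hc : (A \ B).card = n - 4 := by rw [Finset.card_sdiff_of_subset hBA, hA, hB]
    have hn : 4 ≤ n := by rw [← hB, ← hA]; exact Finset.card_le_card hBA
    have := ih (n - 4) (by omega) (A \ B) hc
      (fun y hy => Finset.mem_sdiff.mpr ⟨hAf y (Finset.mem_sdiff.mp hy).1, fun h => (Finset.mem_sdiff.mp hy).2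
        (hf y ▸ hBf _ h)⟩)
      (fun y hy => Finset.mem_sdiff.mpr ⟨hAg y (Finset.mem_sdiff.mp hy).1, fun h => (Finset.mem_sdiff.mp hy).2
        (hg y ▸ hBg _ h)⟩)
    omega

variable {G : Type u} [Group G] [Finite G]

/-- An element of two-power order normalising a Sylow 2-subgroup lies in it. -/
theorem mem_sylow_of_normalizer (S : Sylow 2 G) {t : G} (ht : t * t = 1)
    (hn : t ∈ Subgroup.normalizer ((S : Subgroup G) : Set G)) : t ∈ (S : Subgroup G) := by
  haveI : Fact (Nat.Prime 2) := ⟨Nat.prime_two⟩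
  have hp : IsPGroup 2 (Subgroup.zpowers t) := by
    intro x
    refine ⟨1, Subtype.ext ?_⟩
    obtain ⟨k, hk⟩ := Subgroup.mem_zpowers_iff.mp x.2
    rw [SubgroupClass.coe_pow, OneMemClass.coe_one, ← hk, ← zpow_natCast, ← zpow_mul, mul_comm, zpow_mul,
      zpow_natCast, pow_one, sq, ht, one_zpow]
  have hsup := IsPGroup.to_sup_of_normal_right' hp S.2 (Subgroup.zpowers_le.mpr hn)
  have := S.3 hsup le_sup_right
  exact this ▸ Subgroup.mem_sup_left (Subgroup.mem_zpowers t)

/-- **The congruence.** -/
theorem involutions_mod_four (S : Sylow 2 G) (h4 : 4 ∣ Nat.card (S : Subgroup G)) :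
    Nat.card {t : G // orderOf t = 2} % 4 = Nat.card {t : ↥(S : Subgroup G) // orderOf t = 2} % 4 := by
  classical
  haveI : Fact (Nat.Prime 2) := ⟨Nat.prime_two⟩
  let R : Type u := {t : G // t * t = 1 ∧ t ∉ (S : Subgroup G)}
  suffices hR : 4 ∣ Nat.card R by
    let e : {t : G // orderOf t = 2} ≃ {t : ↥(S : Subgroup G) // orderOf t = 2} ⊕ R :=
      { toFun := fun t => if h : t.1 ∈ (S : Subgroup G) then Sum.inl ⟨⟨t.1, h⟩, by rw [Subgroup.orderOf_mk]; exact t.2⟩
          else Sum.inr ⟨t.1, orderOf_dvd_iff_pow_eq_one.mp (dvd_of_eq t.2) |> fun e => by rwa [sq] at e, h⟩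
        invFun := Sum.elim (fun t => ⟨t.1.1, by rw [Subgroup.orderOf_coe]; exact t.2⟩)
          (fun t => ⟨t.1, orderOf_eq_prime (by rw [sq]; exact t.2.1) fun e1 => t.2.2 (by rw [show t.1 = 1 from e1]; exact one_mem _)⟩)
        left_inv := fun t => by
          by_cases h : t.1 ∈ (S : Subgroup G) <;> simp [h]
        right_inv := fun t => by
          rcases t with t | t
          · simp
          · simp [t.2.2] }
    obtain ⟨k, hk⟩ := hR
    rw [Nat.card_congr e, Nat.card_sum, hk, Nat.add_mul_mod_self_left]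
  -- the action of `S`
  letI : MulAction ↥(S : Subgroup G) R :=
    { smul := fun s t => ⟨(s : G) * t.1 * (s : G)⁻¹, by
        rw [show (s : G) * t.1 * (s : G)⁻¹ * ((s : G) * t.1 * (s : G)⁻¹) = (s : G) * (t.1 * t.1) * (s : G)⁻¹ by group,
          t.2.1, mul_one, mul_inv_cancel], fun h => t.2.2 (by
          have := mul_mem (mul_mem (inv_mem s.2) h) s.2
          convert this using 1
          group)⟩
      one_smul := fun t => Subtype.ext (by show ((1 : ↥(S : Subgroup G)) : G) * t.1 * _ = _; simp)
      mul_smul := fun s s' t => Subtype.ext (by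
        show ((s * s' : ↥(S : Subgroup G)) : G) * t.1 * _ = (s : G) * ((s' : G) * t.1 * (s' : G)⁻¹) * (s : G)⁻¹
        rw [Subgroup.coe_mul]; group) }
  have hsm : ∀ (s : ↥(S : Subgroup G)) (t : R), (s • t).1 = (s : G) * t.1 * (s : G)⁻¹ := fun _ _ => rfl
  -- no fixed point
  have hfix : ∀ t : R, (MulAction.stabilizer ↥(S : Subgroup G) t).index ≠ 1 := by
    intro t h1
    refine t.2.2 (mem_sylow_of_normalizer S t.2.1 ?_)
    rw [Subgroup.mem_normalizer_iff]
    intro s
    have hc : ∀ r ∈ (S : Subgroup G), t.1 * r * t.1⁻¹ = r := fun r hr => by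
      have hm : (⟨r, hr⟩ : ↥(S : Subgroup G)) ∈ MulAction.stabilizer _ t := by
        rw [Subgroup.index_eq_one.mp h1]; exact Subgroup.mem_top _
      have := congrArg Subtype.val (MulAction.mem_stabilizer_iff.mp hm)
      rw [hsm] at this
      rw [mul_inv_eq_iff_eq_mul]
      exact (mul_inv_eq_iff_eq_mul.mp this).symm
    refine ⟨fun hs => (hc s hs).symm ▸ hs, fun hs => ?_⟩
    have h2 := hc _ hs
    have : s = t.1 * s * t.1⁻¹ := mul_left_cancel (mul_right_cancel h2) |>.symm
    rwa [this]
  let R2 : Type u := {t : R // (MulAction.stabilizer ↥(S : Subgroup G) t).index = 2}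
  let R4 : Type u := {t : R // ¬ (MulAction.stabilizer ↥(S : Subgroup G) t).index = 2}
  have hsplit : Nat.card R = Nat.card R2 + Nat.card R4 := by
    rw [← Nat.card_sum]
    exact Nat.card_congr (Equiv.sumCompl _).symm
  have hinv : ∀ (s : ↥(S : Subgroup G)) (t : R), (MulAction.stabilizer ↥(S : Subgroup G) (s • t)).index =
      (MulAction.stabilizer ↥(S : Subgroup G) t).index := fun s t => by
    rw [MulAction.stabilizer_smul_eq_stabilizer_map_conj]
    exact Subgroup.index_map_of_bijective (MulEquiv.bijective (MulAut.conj s)) _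
  rw [hsplit]
  refine dvd_add ?_ ?_
  · -- the involutions centralising a maximal subgroup
    have hM : ∀ M : Subgroup ↥(S : Subgroup G), M.index = 2 → ∃ z ∈ M, z ≠ 1 ∧ z * z = 1 ∧ ∀ s, s * z = z * s := by
      intro M hM2
      haveI := Subgroup.normal_of_index_eq_two hM2
      haveI : Nontrivial M := by
        refine (Subgroup.nontrivial_iff_ne_bot M).mpr fun h0 => ?_
        rw [h0, Subgroup.index_bot] at hM2
        rw [hM2] at h4
        norm_num at h4
      have hne : Nontrivial (Subgroup.center ↥(S : Subgroup G) ⊓ M : Subgroup ↥(S : Subgroup G)) := by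
        haveI hS : Group.IsNilpotent ↥(S : Subgroup G) := S.2.isNilpotent
        rw [inf_comm, Subgroup.nontrivial_iff_ne_bot]
        exact CfsgLib.inf_center_ne_bot_of_nilpotent ((Subgroup.nontrivial_iff_ne_bot M).mp inferInstance)
      haveI := hne
      obtain ⟨z, hz⟩ := exists_prime_orderOf_dvd_card' (G := (Subgroup.center ↥(S : Subgroup G) ⊓ M :
        Subgroup ↥(S : Subgroup G))) 2 (by
          obtain ⟨k, hk⟩ := IsPGroup.iff_card.mp (S.2.to_subgroup
            (Subgroup.center ↥(S : Subgroup G) ⊓ M : Subgroup ↥(S : Subgroup G)))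
          have := Finite.one_lt_card (α := (Subgroup.center ↥(S : Subgroup G) ⊓ M : Subgroup ↥(S : Subgroup G)))
          rw [hk] at this ⊢
          exact dvd_pow_self 2 fun e => by rw [e] at this; omega)
      refine ⟨z, (Subgroup.mem_inf.mp z.2).2, fun e => ?_, ?_, fun s => Subgroup.mem_center_iff.mp (Subgroup.mem_inf.mp z.2).1 s⟩
      · rw [← Subgroup.orderOf_coe, e, orderOf_one] at hz; omega
      · have := orderOf_dvd_iff_pow_eq_one.mp (dvd_of_eq ((Subgroup.orderOf_coe z).trans hz))
        rwa [sq] at this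
    choose! Z hZ hZ1 hZ2 hZc using hM
    have hout : ∀ M : Subgroup ↥(S : Subgroup G), M.index = 2 → ∃ s, s ∉ M := fun M hM2 => by
      by_contra hne
      push Not at hne
      rw [(Subgroup.eq_top_iff' M).mpr hne, Subgroup.index_top] at hM2
      omega
    choose! O hO using hout
    let St : R2 → Subgroup ↥(S : Subgroup G) := fun t => MulAction.stabilizer _ t.1
    have hcom : ∀ t : R2, ((Z (St t) : ↥(S : Subgroup G)) : G) * t.1.1 = t.1.1 * Z (St t) := fun t => by
      have := congrArg Subtype.val (MulAction.mem_stabilizer_iff.mp (hZ (St t) t.2))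
      rw [hsm] at this
      exact mul_inv_eq_iff_eq_mul.mp this
    let tz : R2 → R := fun t => ⟨t.1.1 * Z (St t), by
      rw [show t.1.1 * (Z (St t) : G) * (t.1.1 * Z (St t)) = t.1.1 * ((Z (St t) : G) * t.1.1) * Z (St t) by group,
        hcom, ← mul_assoc, t.1.2.1, one_mul]
      exact congrArg Subtype.val (hZ2 (St t) t.2), fun h => t.1.2.2 (by
        have := mul_mem h (inv_mem (Z (St t)).2)
        rwa [mul_inv_cancel_right] at this)⟩
    have hsz : ∀ (t : R2) (s : ↥(S : Subgroup G)), (s : G) * (t.1.1 * Z (St t)) * (s : G)⁻¹ =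
        (s • t.1).1 * Z (St t) := fun t s => by
      have e : (s : G) * Z (St t) = Z (St t) * s := congrArg Subtype.val (hZc (St t) t.2 s)
      rw [hsm]
      calc (s : G) * (t.1.1 * Z (St t)) * (s : G)⁻¹
          = (s : G) * t.1.1 * (s : G)⁻¹ * ((s : G) * Z (St t)) * (s : G)⁻¹ := by group
        _ = _ := by rw [e]; group
    have hstz : ∀ t : R2, MulAction.stabilizer ↥(S : Subgroup G) (tz t) = St t := fun t => by
      ext s
      rw [MulAction.mem_stabilizer_iff, MulAction.mem_stabilizer_iff, Subtype.ext_iff, Subtype.ext_iff, hsm]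
      show (s : G) * (t.1.1 * Z (St t)) * (s : G)⁻¹ = _ ↔ _
      rw [hsz]
      exact mul_left_inj _
    let f : R2 → R2 := fun t => ⟨tz t, by rw [hstz]; exact t.2⟩
    have hSt : ∀ t : R2, St (f t) = St t := hstz
    have hStg : ∀ (t : R2) (s : ↥(S : Subgroup G)), MulAction.stabilizer ↥(S : Subgroup G) (s • t.1) = St t := by
      intro t s
      haveI := Subgroup.normal_of_index_eq_two t.2
      rw [MulAction.stabilizer_smul_eq_stabilizer_map_conj]
      exact Subgroup.Normal.map_conj_eq _ s
    let g : R2 → R2 := fun t => ⟨O (St t) • t.1, by rw [hStg]; exact t.2⟩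
    have hSg : ∀ t : R2, St (g t) = St t := fun t => hStg t _
    refine four_dvd_of_pair f g (fun t => ?_) (fun t => ?_) (fun t => ?_) (fun t e => ?_) (fun t e => ?_)
      (fun t e => ?_)
    · refine Subtype.ext (Subtype.ext ?_)
      show (f t).1.1 * Z (St (f t)) = t.1.1
      rw [hSt]
      show t.1.1 * Z (St t) * Z (St t) = t.1.1
      rw [mul_assoc, show ((Z (St t) : ↥(S : Subgroup G)) : G) * Z (St t) = 1 from
        congrArg Subtype.val (hZ2 (St t) t.2), mul_one]
    · refine Subtype.ext ?_
      show O (St (g t)) • O (St t) • t.1 = t.1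
      rw [hSg, ← mul_smul]
      exact MulAction.mem_stabilizer_iff.mp (Subgroup.mul_self_mem_of_index_two t.2 _)
    · refine Subtype.ext (Subtype.ext ?_)
      show (g t).1.1 * Z (St (g t)) = (O (St (f t)) • (f t).1).1
      rw [hSg, hSt, hsm]
      exact (hsz t _).symm
    · refine hZ1 (St t) t.2 (Subtype.ext ?_)
      exact mul_eq_left.mp (congrArg (fun x : R2 => x.1.1) e)
    · exact hO (St t) t.2 (MulAction.mem_stabilizer_iff.mpr (congrArg Subtype.val e))
    · -- then `t` normalises `S`
      have e1 : t.1.1 * Z (St t) = (O (St t) : G) * t.1.1 * (O (St t) : G)⁻¹ := congrArg (fun x : R2 => x.1.1) e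
      refine t.1.2.2 (mem_sylow_of_normalizer S t.1.2.1 ?_)
      have hcl : ∀ r ∈ (S : Subgroup G), t.1.1 * r * t.1.1⁻¹ ∈ (S : Subgroup G) := by
        intro r hr
        have hfix' : ∀ m : ↥(S : Subgroup G), m ∈ St t → t.1.1 * m * t.1.1⁻¹ = m := fun m hm => by
          have := congrArg Subtype.val (MulAction.mem_stabilizer_iff.mp hm)
          rw [hsm] at this
          rw [mul_inv_eq_iff_eq_mul]
          exact (mul_inv_eq_iff_eq_mul.mp this).symm
        have ho : t.1.1 * (O (St t) : G) * t.1.1⁻¹ ∈ (S : Subgroup G) := by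
          have e2 : t.1.1 * (O (St t) : G) * t.1.1⁻¹ = (Z (St t) : G)⁻¹ * O (St t) := by
            rw [show t.1.1⁻¹ = t.1.1 from inv_eq_of_mul_eq_one_right t.1.2.1]
            have e3 : (O (St t) : G) * t.1.1 = t.1.1 * Z (St t) * O (St t) := by rw [e1]; group
            rw [mul_assoc, e3]
            simp only [← mul_assoc]
            rw [t.1.2.1, one_mul, inv_eq_of_mul_eq_one_right (congrArg Subtype.val (hZ2 (St t) t.2))]
          rw [e2]
          exact mul_mem (inv_mem (Z (St t)).2) (O (St t)).2
        by_cases hrm : (⟨r, hr⟩ : ↥(S : Subgroup G)) ∈ St t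
        · rw [show t.1.1 * r * t.1.1⁻¹ = r from hfix' ⟨r, hr⟩ hrm]; exact hr
        · have hm : (O (St t))⁻¹ * ⟨r, hr⟩ ∈ St t := by
            rw [Subgroup.mul_mem_iff_of_index_two t.2, inv_mem_iff]
            exact iff_of_false (hO (St t) t.2) hrm
          have := hfix' _ hm
          rw [Subgroup.coe_mul, Subgroup.coe_inv] at this
          rw [show t.1.1 * r * t.1.1⁻¹ = t.1.1 * O (St t) * t.1.1⁻¹ * (t.1.1 * ((O (St t) : G)⁻¹ * r) * t.1.1⁻¹) by group,
            this]
          exact mul_mem ho (mul_mem (inv_mem (O (St t)).2) hr)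
      rw [Subgroup.mem_normalizer_iff]
      refine fun r => ⟨hcl r, fun hr => ?_⟩
      have := hcl _ hr
      rw [show t.1.1 * (t.1.1 * r * t.1.1⁻¹) * t.1.1⁻¹ = t.1.1 * t.1.1 * r * (t.1.1 * t.1.1)⁻¹ by group,
        t.1.2.1, one_mul, inv_one, mul_one] at this
      exact this
  · -- the long orbits
    letI : MulAction ↥(S : Subgroup G) R4 :=
      { smul := fun s t => ⟨s • t.1, by rw [hinv]; exact t.2⟩
        one_smul := fun t => Subtype.ext (one_smul _ _)
        mul_smul := fun s s' t => Subtype.ext (mul_smul _ _ _) }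
    letI := Fintype.ofFinite R4
    letI := Fintype.ofFinite (MulAction.orbitRel.Quotient ↥(S : Subgroup G) R4)
    rw [Nat.card_congr (MulAction.selfEquivSigmaOrbits ↥(S : Subgroup G) R4), Nat.card_sigma]
    refine Finset.dvd_sum fun o _ => ?_
    rw [Nat.card_coe_set_eq, ← MulAction.index_stabilizer]
    set t : R4 := o.out
    have hst : MulAction.stabilizer ↥(S : Subgroup G) t = MulAction.stabilizer ↥(S : Subgroup G) t.1 := by
      ext s
      rw [MulAction.mem_stabilizer_iff, MulAction.mem_stabilizer_iff]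
      exact Subtype.ext_iff
    rw [hst]
    obtain ⟨k, hk⟩ := S.2.index (MulAction.stabilizer ↥(S : Subgroup G) t.1)
    have h2 := t.2
    have h1 := hfix t.1
    rw [hk] at h1 h2 ⊢
    rcases k with _ | _ | k
    · simp at h1
    · simp at h2
    · exact ⟨2 ^ k, by ring⟩

end CfsgLib.RankTwoModel.Rows
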