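import Cfsg.Agent.Lib.RankTwoModel.Rows.Main
import Cfsg.Agent.Lib.RankTwoModel.Rows.Count
import Cfsg.Agent.Lib.HSub.Complement
import Cfsg.Agent.S4477
import Cfsg.Agent.S4399
import Cfsg.Agent.S0225
import Cfsg.Agent.Lib.MinNonCA.AbelianFinal

/-!
The row S1257 from the main theorem: a simple group whose number of involutions is `1` modulo `4` has order `2` or
dihedral or semidihedral Sylow 2-subgroups.
-/

set_option autoImplicit false
set_option linter.unusedSectionVars false
set_option linter.style.haveILetI false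

namespace CfsgLib.RankTwoModel.Rows

open Cfsg

universe u v

variable {G : Type u} [Group G] [Finite G] [IsSimpleGroup G]

theorem card_two_of_cyclic (S : Sylow 2 G) (hS : IsCyclic (S : Subgroup G)) (h2 : 2 ∣ Nat.card G) : Nat.card G = 2 := by
  haveI : Fact (Nat.Prime 2) := ⟨Nat.prime_two⟩
  obtain ⟨P, N, hN, hc⟩ := CfsgLib.HSub.hasNormalPComplement_of_cyclic (p := 2)
    (fun q hq _ => hq.two_le) S hS
  have hPS : Nat.card (P : Subgroup G) = Nat.card (S : Subgroup G) := Nat.card_congr (Sylow.equiv P S).toEquiv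
  rcases hN.eq_bot_or_eq_top with e | e
  · have h := hc.card_mul
    rw [e, Subgroup.card_bot, one_mul] at h
    have htop : (P : Subgroup G) = ⊤ := Subgroup.eq_top_of_card_eq _ h
    haveI := hS
    haveI : IsCyclic (P : Subgroup G) := isCyclic_of_surjective (Sylow.equiv S P) (Sylow.equiv S P).surjective
    haveI : IsCyclic G := by
      obtain ⟨g, hg⟩ := IsCyclic.exists_generator (α := (P : Subgroup G))
      refine ⟨⟨g, fun x => ?_⟩⟩
      obtain ⟨k, hk⟩ := hg ⟨x, htop.ge (Subgroup.mem_top x)⟩
      exact ⟨k, congrArg Subtype.val hk⟩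
    letI := IsCyclic.commGroup (α := G)
    have hp : (Nat.card G).Prime := IsSimpleGroup.prime_card
    exact ((Nat.prime_dvd_prime_iff_eq Nat.prime_two hp).mp h2).symm
  · exfalso
    have h := hc.card_mul
    rw [e, Subgroup.card_top] at h
    obtain ⟨k, hk⟩ := IsPGroup.iff_card.mp P.2
    have h1 : Nat.card (P : Subgroup G) = 1 := by
      have hpos := Nat.card_pos (α := G)
      exact Nat.eq_of_mul_eq_mul_left hpos (h.trans (mul_one _).symm)
    have h3 := P.card_eq_multiplicity
    rw [h1] at h3
    have := (Nat.Prime.factorization_pos_of_dvd Nat.prime_two Nat.card_pos.ne' h2)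
    have := Nat.one_lt_pow (n := (Nat.card G).factorization 2) (by omega) (by norm_num : 1 < 2)
    omega

/-- No simple group has generalized quaternion Sylow 2-subgroups. -/
theorem not_quaternion (S : Sylow 2 G) {k : ℕ} (e : (S : Subgroup G) ≃* QuaternionGroup (2 ^ (k + 1))) : False := by
  haveI : Fact (Nat.Prime 2) := ⟨Nat.prime_two⟩
  haveI : NeZero (2 ^ (k + 1)) := ⟨by positivity⟩
  have h2 : 2 ∣ Nat.card G := (show 2 ∣ Nat.card (S : Subgroup G) by
    rw [Nat.card_congr e.toEquiv, Nat.card_eq_fintype_card, QuaternionGroup.card]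
    exact ⟨2 * 2 ^ (k + 1), by ring⟩).trans (Subgroup.card_subgroup_dvd_card _)
  have huniq : ∀ a b : (S : Subgroup G), a * a = 1 → b * b = 1 → a ≠ 1 → b ≠ 1 → a = b := by
    have hcl : ∀ g : QuaternionGroup (2 ^ (k + 1)), g * g = 1 → g ≠ 1 → g = QuaternionGroup.a ((2 ^ (k + 1) : ℕ) : ZMod (2 * 2 ^ (k + 1))) := by
      intro g hg hg1
      rcases g with i | i
      · rw [QuaternionGroup.a_mul_a, ← QuaternionGroup.a_zero] at hg
        have hi : i + i = 0 := QuaternionGroup.a.injEq _ _ ▸ hg
        congr 1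
        obtain ⟨m, rfl⟩ := ZMod.natCast_zmod_surjective i
        have hdvd : 2 * 2 ^ (k + 1) ∣ m + m := by
          rw [← ZMod.natCast_eq_zero_iff, Nat.cast_add, hi]
        rw [← two_mul] at hdvd
        obtain ⟨j, hj⟩ := Nat.dvd_of_mul_dvd_mul_left two_pos hdvd
        rcases Nat.even_or_odd' j with ⟨l, rfl | rfl⟩
        · refine absurd ?_ hg1
          rw [← QuaternionGroup.a_zero]
          congr 1
          rw [ZMod.natCast_eq_zero_iff, hj]
          exact ⟨l, by ring⟩
        · rw [hj, show 2 ^ (k + 1) * (2 * l + 1) = 2 * 2 ^ (k + 1) * l + 2 ^ (k + 1) by ring, Nat.cast_add,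
            Nat.cast_mul, ZMod.natCast_self, zero_mul, zero_add]
      · exfalso
        have h4 := QuaternionGroup.orderOf_xa (n := 2 ^ (k + 1)) i
        have h2 := orderOf_dvd_of_pow_eq_one (n := 2) (x := QuaternionGroup.xa i) (by rw [sq]; exact hg)
        rw [h4] at h2
        exact absurd (Nat.le_of_dvd two_pos h2) (by norm_num)
    intro a b ha hb ha1 hb1
    refine e.injective ((hcl _ (by rw [← map_mul, ha, map_one]) ?_).trans
      (hcl _ (by rw [← map_mul, hb, map_one]) ?_).symm)
    · exact fun h => ha1 (e.injective (h.trans (map_one e).symm))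
    · exact fun h => hb1 (e.injective (h.trans (map_one e).symm))
  obtain ⟨z, hz, N, hN, hNo, hc⟩ := Cfsg.Agent.S0225.result (even_iff_two_dvd.mpr h2) fun E hE => by
    haveI := hE
    classical
    haveI : Fintype E := Fintype.ofFinite E
    haveI : Nontrivial E := Finite.one_lt_card_iff_nontrivial.mp (by rw [hE.card_four]; norm_num)
    obtain ⟨P, hP⟩ := (IsPGroup.of_card (p := 2) (n := 2) (G := E) (hE.card_four.trans (by norm_num))).exists_le_sylow
    let f := Sylow.equiv P S
    obtain ⟨a, ha⟩ : ∃ a : E, a ≠ 1 := exists_ne 1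
    obtain ⟨b, hb, hab⟩ : ∃ b : E, b ≠ 1 ∧ b ≠ a := by
      by_contra hne
      push Not at hne
      have : Nat.card E ≤ 2 := by
        refine le_trans (Nat.card_le_card_of_injective (fun x : E => decide (x = 1)) ?_) (by simp)
        intro x y hxy
        by_cases hx : x = 1 <;> by_cases hy : y = 1 <;> simp [hx, hy] at hxy ⊢
        exact (hne x hx).trans (hne y hy).symm
      rw [hE.card_four] at this
      omega
    have hsq : ∀ x : E, (⟨(x : G), hP x.2⟩ : (P : Subgroup G)) * ⟨(x : G), hP x.2⟩ = 1 := fun x =>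
      Subtype.ext (show (x : G) * x = 1 from congrArg Subtype.val (IsKleinFour.mul_self x))
    have hh : f ⟨(b : G), hP b.2⟩ ≠ f ⟨(a : G), hP a.2⟩ := fun e =>
      hab (Subtype.ext (congrArg Subtype.val (f.injective e) :))
    refine hh (huniq _ _ ?_ ?_ ?_ ?_)
    · rw [← map_mul, hsq, map_one]
    · rw [← map_mul, hsq, map_one]
    · exact fun h => hb (Subtype.ext (congrArg Subtype.val (f.injective (h.trans (map_one f).symm)) :))
    · exact fun h => ha (Subtype.ext (congrArg Subtype.val (f.injective (h.trans (map_one f).symm)) :))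
  have hN1 : N = ⊥ := hN.eq_bot_or_eq_top.resolve_right fun h => by
    rw [h, Subgroup.card_top] at hNo
    exact Nat.not_odd_iff_even.mpr (even_iff_two_dvd.mpr h2) hNo
  have hzc : z ∈ Subgroup.center G := Subgroup.mem_center_iff.mpr fun g => by
    have := hc g
    rw [hN1, Subgroup.mem_bot, mul_inv_eq_one, mul_inv_eq_iff_eq_mul] at this
    exact this.symm
  rcases (inferInstance : (Subgroup.center G).Normal).eq_bot_or_eq_top with h | h
  · rw [h, Subgroup.mem_bot] at hzc
    rw [hzc, orderOf_one] at hz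
    omega
  · have hcomm : ∀ a b : G, a * b = b * a := fun a b => (Subgroup.mem_center_iff.mp (h.ge (Subgroup.mem_top b)) a)
    letI : CommGroup G := { (inferInstance : Group G) with mul_comm := hcomm }
    have hp : (Nat.card G).Prime := IsSimpleGroup.prime_card
    have h4 : 4 ∣ Nat.card G := (show 4 ∣ Nat.card (S : Subgroup G) by
      rw [Nat.card_congr e.toEquiv, Nat.card_eq_fintype_card, QuaternionGroup.card]
      exact dvd_mul_right _ _).trans (Subgroup.card_subgroup_dvd_card _)
    have := (Nat.prime_dvd_prime_iff_eq Nat.prime_two hp).mp h2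
    omega

/-- S1257 from the main theorem. -/
theorem involution_count (main : Main.{u}) (hI : Nat.card {t : G // orderOf t = 2} % 4 = 1) :
    Nat.card G = 2 ∨ Nonempty (G ≃* alternatingGroup (Fin 7)) ∨ Cfsg.IsM11 G ∨
      (∃ (F : Type) (_ : Field F) (_ : Fintype F), 3 < Fintype.card F ∧
        (Fintype.card F % 8 = 1 ∨ Fintype.card F % 8 = 7) ∧
        Nonempty (G ≃* Matrix.ProjectiveSpecialLinearGroup (Fin 2) F)) ∨
      (∃ (F : Type) (_ : Field F) (_ : Fintype F), Fintype.card F % 4 = 3 ∧
        Nonempty (G ≃* Matrix.ProjectiveSpecialLinearGroup (Fin 3) F)) ∨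
      (∃ (F : Type) (_ : Field F) (_ : Fintype F) (q : ℕ), Fintype.card F = q ^ 2 ∧ q % 4 = 1 ∧
        Nonempty (G ≃* Cfsg.PSU 3 F q)) := by
  haveI : Fact (Nat.Prime 2) := ⟨Nat.prime_two⟩
  obtain ⟨S⟩ : Nonempty (Sylow 2 G) := inferInstance
  have h2 : 2 ∣ Nat.card G := by
    obtain ⟨⟨t, ht⟩⟩ : Nonempty {t : G // orderOf t = 2} := (Nat.card_pos_iff.mp (by omega)).1
    exact ht ▸ orderOf_dvd_natCard t
  by_cases hcyc : IsCyclic (S : Subgroup G)
  · exact Or.inl (card_two_of_cyclic S hcyc h2)
  have h4 : 4 ∣ Nat.card (S : Subgroup G) := by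
    obtain ⟨k, hk⟩ := IsPGroup.iff_card.mp S.2
    rw [hk]
    rcases k with _ | _ | k
    · haveI : Subsingleton (S : Subgroup G) := (Nat.card_eq_one_iff_unique.mp (by simpa using hk)).1
      exact absurd isCyclic_of_subsingleton hcyc
    · exact absurd (isCyclic_of_prime_card (p := 2) (by simpa using hk)) hcyc
    · exact ⟨2 ^ k, by ring⟩
  rw [involutions_mod_four S h4] at hI
  have hidx := (Cfsg.Agent.S4477.result S.2 hI).resolve_left hcyc
  have hexp : ∀ x : Abelianization (S : Subgroup G), x ^ 2 = 1 := by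
    intro x
    obtain ⟨g, rfl⟩ := QuotientGroup.mk'_surjective (commutator (S : Subgroup G)) x
    by_contra hne
    refine hcyc ?_
    have ho : orderOf (QuotientGroup.mk' (commutator (S : Subgroup G)) g) = 4 := by
      have hd : orderOf (QuotientGroup.mk' (commutator (S : Subgroup G)) g) ∣ 4 := by
        rw [← hidx]
        exact orderOf_dvd_natCard _
      obtain ⟨j, hj, hjo⟩ := (Nat.dvd_prime_pow Nat.prime_two).mp (show _ ∣ 2 ^ 2 from hd)
      rcases j with _ | _ | j
      · exact absurd (orderOf_dvd_iff_pow_eq_one.mp ((dvd_of_eq hjo).trans (by norm_num))) hne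
      · exact absurd (orderOf_dvd_iff_pow_eq_one.mp ((dvd_of_eq hjo).trans (by norm_num))) hne
      · rw [hjo, show j = 0 by omega]; rfl
    have hgen : Subgroup.zpowers g ⊔ frattini (S : Subgroup G) = ⊤ := by
      refine eq_top_iff.mpr (le_trans ?_ (sup_le_sup_left (CfsgLib.commutator_le_frattini_pGroup S.2) _))
      intro y _
      have hy : QuotientGroup.mk' (commutator (S : Subgroup G)) y ∈
          Subgroup.zpowers (QuotientGroup.mk' (commutator (S : Subgroup G)) g) := by
        rw [Subgroup.eq_top_of_card_eq _ ((Nat.card_zpowers _).trans (ho.trans hidx.symm))]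
        exact Subgroup.mem_top _
      obtain ⟨i, hi⟩ := Subgroup.mem_zpowers_iff.mp hy
      rw [← map_zpow] at hi
      have := QuotientGroup.eq.mp hi
      rw [show y = g ^ i * ((g ^ i)⁻¹ * y) by rw [mul_inv_cancel_left]]
      exact mul_mem (Subgroup.mem_sup_left ⟨i, rfl⟩) (Subgroup.mem_sup_right this)
    have htop := frattini_nongenerating hgen
    exact ⟨⟨g, fun y => htop.ge (Subgroup.mem_top y)⟩⟩
  rcases Cfsg.Agent.S4399.result S.2 hidx hexp with hc | ⟨k, ⟨e⟩⟩ | ⟨k, hk, a, b, ha, hb, hab⟩ | ⟨k, ⟨e⟩⟩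
  · exfalso
    have hbot : commutator (S : Subgroup G) = ⊥ := by
      have := (commutator (S : Subgroup G)).card_mul_index
      rw [hidx, hc] at this
      exact Subgroup.eq_bot_of_card_eq _ (by omega)
    have hsq : ∀ x : (S : Subgroup G), x ^ 2 = 1 := fun x => by
      have := hexp (Abelianization.of x)
      rw [← map_pow, ← MonoidHom.mem_ker, Abelianization.ker_of, hbot, Subgroup.mem_bot] at this
      exact this
    have e : {t : (S : Subgroup G) // orderOf t = 2} ≃ {t : (S : Subgroup G) // t ≠ 1} :=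
      Equiv.subtypeEquivRight fun t => ⟨fun h h1 => by rw [h1, orderOf_one] at h; omega,
        fun h => orderOf_eq_prime (hsq t) h⟩
    classical
    letI := Fintype.ofFinite (S : Subgroup G)
    rw [Nat.card_congr e, Nat.card_eq_fintype_card, Fintype.card_subtype_compl, Fintype.card_subtype_eq,
      ← Nat.card_eq_fintype_card, hc] at hI
    omega
  · have hG : ¬ IsMulCommutative G := fun hc => by
      haveI := hc
      haveI : IsMulCommutative (S : Subgroup G) := inferInstance
      have h0 : (commutator (S : Subgroup G)) = ⊥ := by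
        rw [commutator_def, Subgroup.commutator_eq_bot_iff_le_centralizer]
        exact fun x _ => Subgroup.mem_centralizer_iff.mpr fun y _ => Subtype.ext (hc.is_comm.comm _ _)
      rw [h0, Subgroup.index_bot, Nat.card_congr e.toEquiv, DihedralGroup.nat_card, pow_add] at hidx
      have := Nat.one_le_two_pow (n := k)
      omega
    rcases dihedral hG S (n := 2 ^ (k + 2)) (by rw [pow_add]; have := Nat.one_le_two_pow (n := k); omega) e with
        ⟨F, iF, iFt, hodd, h5, ⟨e'⟩⟩ | hA
    · refine Or.inr (Or.inr (Or.inr (Or.inl ⟨F, iF, iFt, by omega, ?_, ⟨e'⟩⟩)))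
      by_contra hne
      obtain ⟨j, hj⟩ := hodd
      have h8 : Fintype.card F % 8 = 3 ∨ Fintype.card F % 8 = 5 := by omega
      have hd : 8 ∣ Nat.card (Matrix.ProjectiveSpecialLinearGroup (Fin 2) F) := by
        rw [← Nat.card_congr e'.toEquiv]
        refine (show 8 ∣ Nat.card (S : Subgroup G) from ?_).trans (Subgroup.card_subgroup_dvd_card _)
        rw [Nat.card_congr e.toEquiv, DihedralGroup.nat_card]
        exact ⟨2 ^ k, by ring⟩
      obtain ⟨c, hc⟩ := hd
      have h1 := CfsgLib.MinNonCA.card_PSL_two (F := F) ⟨j, hj⟩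
      obtain ⟨m, r, hm, hr⟩ : ∃ m r, Fintype.card F = 8 * m + r ∧ (r = 3 ∨ r = 5) :=
        ⟨Fintype.card F / 8, Fintype.card F % 8, (Nat.div_add_mod _ 8).symm, h8⟩
      have hmod : (Fintype.card F * (Fintype.card F ^ 2 - 1)) % 16 = 0 := by rw [← h1, hc]; omega
      rw [Nat.mul_mod, hm] at hmod
      have hsq : ((8 * m + r) ^ 2 - 1) % 16 = 8 := by
        rcases hr with rfl | rfl
        · rw [show (8 * m + 3) ^ 2 - 1 = 16 * (4 * m * m + 3 * m) + 8 from
            Nat.sub_eq_of_eq_add (by ring)]
          omega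
        · rw [show (8 * m + 5) ^ 2 - 1 = 16 * (4 * m * m + 5 * m + 1) + 8 from
            Nat.sub_eq_of_eq_add (by ring)]
          omega
      rw [hsq] at hmod
      rcases hr with rfl | rfl <;> omega
    · exact Or.inr (Or.inl hA)
  · rcases semidihedral main S ⟨k + 3, by omega, hk, a, b, ha, hb, hab⟩ with h | h | h
    · exact Or.inr (Or.inr (Or.inr (Or.inr (Or.inl h))))
    · exact Or.inr (Or.inr (Or.inr (Or.inr (Or.inr h))))
    · exact Or.inr (Or.inr (Or.inl h))
  · exact (not_quaternion S e).elim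

end CfsgLib.RankTwoModel.Rows
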